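import Groth.Agent.Lib.CohMop.ExtResolution
import Groth.Agent.Lib.CohMop.Bidual
import Groth.Agent.Lib.VB17.Pair

/-!
# Duals of short exact sequences with locally free quotient, duals of invertible modules
-/

set_option autoImplicit false
set_option linter.style.haveILetI false
set_option linter.unusedSectionVars false
set_option backward.isDefEq.respectTransparency false
set_option backward.isDefEq.respectTransparency.types false

universe u

open CategoryTheory CategoryTheory.Limits AlgebraicGeometry

noncomputable section

namespace Groth.Agent.ES11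

open Groth.Agent Groth.Agent.CohMop KFlat KFlat.Sch

variable {X : Scheme.{u}}

/-- `tenR` is tensoring on the right. -/
def tenRIso (E : X.Modules) : tenR E ≅ M2.tensorR E :=
  NatIso.ofComponents (fun N => Iso.refl _) (fun g => by
    rw [Iso.refl_hom, Iso.refl_hom, Category.comp_id, Category.id_comp]
    exact RHom.map_eq_tensorMap_left g E)

/-- The dual of an invertible module is its inverse. -/
theorem nonempty_dual_iso_of_inverse {L D : X.Modules} (hL : PicF.IsInvertible L)
    (e : CohB1.tensorMod L D ≅ Coh.structureModule X) : Nonempty (dual L ≅ D) := by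
  haveI := VB17.isEquivalence_tensorR hL
  let A := (M2.tensorR L).asEquivalence.toAdjunction
  let η : ihom L ≅ (M2.tensorR L).inv :=
    (ihomAdj L).rightAdjointUniq (A.ofNatIsoLeft (tenRIso L).symm)
  let ε : CohB1.tensorMod D L ≅ Coh.structureModule X := M2.tensorComm D L ≪≫ e
  exact ⟨η.app _ ≪≫ (M2.tensorR L).inv.mapIso ε.symm ≪≫
    ((M2.tensorR L).asEquivalence.unitIso.app D).symm⟩

/-- The dual of a short exact sequence with finite locally free quotient is short exact. -/
theorem shortExact_dual {S : ShortComplex X.Modules} (hS : S.ShortExact) (h₃ : FlatMod.IsFinLocFree S.X₃) :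
    (ShortComplex.mk ((ihomNat S.g).app (Coh.structureModule X)) ((ihomNat S.f).app (Coh.structureModule X))
      (ihomNat_zero S (Coh.structureModule X))).ShortExact := by
  let O := Coh.structureModule X
  haveI := hS.epi_g
  obtain ⟨hl⟩ := nonempty_isLimit_ihomSeq hS.exact O
  haveI : Mono ((ihomNat S.g).app O) := mono_of_isLimit_fork hl
  have h := RDSeq.exact_rightDerived_delta (ihomNat S.g) (ihomNat S.f) (ihomNat_zero S)
    (shortExact_ihom_of_injective hS) 0 O
  haveI : Epi ((NatTrans.rightDerived (ihomNat S.f) 0).app O) :=
    h.epi_f ((homExact_of_isFinLocFree h₃ 0 O).eq_of_tgt _ _)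
  haveI : Epi ((ihomNat S.f).app O) := by
    have hn := RDSeq.toRightDerivedZero_natural (ihomNat S.f) O
    haveI : IsIso ((ihom S.X₁).toRightDerivedZero.app O) := inferInstance
    haveI : IsIso ((ihom S.X₂).toRightDerivedZero.app O) := inferInstance
    haveI : Epi ((ihomNat S.f).app O ≫ (ihom S.X₁).toRightDerivedZero.app O) := by
      rw [hn]; exact epi_comp _ _
    rw [show (ihomNat S.f).app O = ((ihomNat S.f).app O ≫ (ihom S.X₁).toRightDerivedZero.app O) ≫
      inv ((ihom S.X₁).toRightDerivedZero.app O) by simp]
    exact epi_comp _ _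
  exact ShortComplex.ShortExact.mk' (ShortComplex.exact_of_f_is_kernel _ hl) inferInstance inferInstance

end Groth.Agent.ES11
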