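import Groth.Agent.Lib.TensorNat17.Basic
import Groth.Agent.Lib.TensorMod.IdealMod
import Groth.Agent.Lib.RefHull26.HomExt
import Groth.Agent.Lib.CurveCoh17.LES
import Groth.Agent.Lib.CurveCoh17.Skyscraper
import Groth.Agent.Lib.Ample18.Gen
import Groth.Agent.Lib.ModLimH13.Hom1
import Mathlib.AlgebraicGeometry.IdealSheaf.Functorial

/-!
# Bijectivity of composition with a quotient map on groups of homomorphisms
-/

set_option autoImplicit false
set_option linter.style.haveILetI false
set_option linter.unusedSectionVars false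
set_option backward.isDefEq.respectTransparency false

universe u

open CategoryTheory CategoryTheory.Limits AlgebraicGeometry TopologicalSpace Opposite

noncomputable section

namespace Groth.Agent.ES11

open Groth.Agent

variable {X : Scheme.{u}}

/-- Tensoring with an invertible module is faithful. -/
theorem tensorR_map_injective {D L : X.Modules} (e : CohB1.tensorMod D L ≅ Coh.structureModule X)
    {A B : X.Modules} {f g : A ⟶ B} (h : M2.tensorMap f (𝟙 D) = M2.tensorMap g (𝟙 D)) : f = g := by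
  rw [← cancel_epi (M2.untwist e A).hom, ← M2.untwist_natural e f, ← M2.untwist_natural e g, h]

/-- Tensoring with an invertible module is full. -/
theorem tensorR_map_surjective {D L : X.Modules} (e : CohB1.tensorMod D L ≅ Coh.structureModule X)
    {A B : X.Modules} (h : CohB1.tensorMod A D ⟶ CohB1.tensorMod B D) :
    ∃ φ : A ⟶ B, M2.tensorMap φ (𝟙 D) = h := by
  let φ : A ⟶ B := (M2.untwist e A).inv ≫ M2.tensorMap h (𝟙 L) ≫ (M2.untwist e B).hom
  refine ⟨φ, tensorR_map_injective (M2.tensorComm L D ≪≫ e) ?_⟩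
  rw [← cancel_mono (M2.untwist e B).hom, M2.untwist_natural e φ]
  simp [φ]

variable {G H : X.Modules} (q : G ⟶ H)

/-- Twisting the source. -/
theorem bijective_comp_of_tensor {P Q : X.Modules} (e : CohB1.tensorMod P Q ≅ Coh.structureModule X)
    (h : Function.Bijective fun t : Coh.structureModule X ⟶ CohB1.tensorMod G Q => t ≫ M2.tensorMap q (𝟙 Q)) :
    Function.Bijective fun φ : P ⟶ G => φ ≫ q := by
  have e' : CohB1.tensorMod Q P ≅ Coh.structureModule X := M2.tensorComm Q P ≪≫ e
  refine ⟨fun φ φ' hφ => tensorR_map_injective e' ?_, fun g => ?_⟩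
  · rw [← cancel_epi e.inv]
    refine h.1 ?_
    simp only [Category.assoc, ← M2.tensorMap_comp, Category.id_comp]
    exact congrArg (fun ψ => e.inv ≫ M2.tensorMap ψ (𝟙 Q)) hφ
  · obtain ⟨s, hs⟩ := h.2 (e.inv ≫ M2.tensorMap g (𝟙 Q))
    obtain ⟨φ, hφ⟩ := tensorR_map_surjective e' (e.hom ≫ s)
    refine ⟨φ, tensorR_map_injective e' ?_⟩
    rw [show M2.tensorMap (φ ≫ q) (𝟙 Q) = M2.tensorMap φ (𝟙 Q) ≫ M2.tensorMap q (𝟙 Q) by
      rw [← M2.tensorMap_comp, Category.id_comp], hφ, Category.assoc]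
    simp only at hs
    rw [hs, e.hom_inv_id_assoc]

/-- Finite sums of one module. -/
theorem bijective_comp_coprod {M : X.Modules} {ι : Type} [HasCoproduct fun _ : ι => M]
    (h : Function.Bijective fun φ : M ⟶ G => φ ≫ q) :
    Function.Bijective fun φ : (∐ fun _ : ι => M) ⟶ G => φ ≫ q := by
  refine ⟨fun φ φ' hφ => Sigma.hom_ext _ _ fun j => h.1 ?_, fun g => ?_⟩
  · simp only [Category.assoc]
    exact congrArg (Sigma.ι (fun _ : ι => M) j ≫ ·) hφ
  · choose s hs using fun j : ι => h.2 (Sigma.ι (fun _ : ι => M) j ≫ g)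
    refine ⟨Sigma.desc s, Sigma.hom_ext _ _ fun j => ?_⟩
    simp only [Sigma.ι_desc_assoc]
    exact hs j

/-- Changing the source by an isomorphism. -/
theorem bijective_comp_iso {M N : X.Modules} (e : M ≅ N) (h : Function.Bijective fun φ : M ⟶ G => φ ≫ q) :
    Function.Bijective fun φ : N ⟶ G => φ ≫ q := by
  refine ⟨fun φ φ' hφ => ?_, fun g => ?_⟩
  · rw [← cancel_epi e.hom]
    refine h.1 ?_
    simp only [Category.assoc]
    exact congrArg (e.hom ≫ ·) hφ
  · obtain ⟨s, hs⟩ := h.2 (e.hom ≫ g)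
    exact ⟨e.inv ≫ s, by simp only [Category.assoc] at hs ⊢; rw [hs, e.inv_hom_id_assoc]⟩

/-- Bijectivity passes to cokernels. -/
theorem bijective_comp_of_presentation {A B F : X.Modules} (a : A ⟶ B) (b : B ⟶ F) [Epi b] (w : a ≫ b = 0)
    (hex : (ShortComplex.mk a b w).Exact) (hA : Function.Injective fun φ : A ⟶ G => φ ≫ q)
    (hB : Function.Bijective fun φ : B ⟶ G => φ ≫ q) :
    Function.Bijective fun φ : F ⟶ G => φ ≫ q := by
  refine ⟨fun φ φ' hφ => ?_, fun g => ?_⟩
  · rw [← cancel_epi b]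
    refine hB.1 ?_
    simp only [Category.assoc]
    exact congrArg (b ≫ ·) hφ
  · obtain ⟨ψ, hψ⟩ := hB.2 (b ≫ g)
    simp only at hψ
    have h0 : a ≫ ψ = 0 := hA (by
      simp only [Category.assoc, hψ, zero_comp]
      rw [← Category.assoc, w, zero_comp])
    haveI : Epi (ShortComplex.mk a b w).g := inferInstanceAs (Epi b)
    refine ⟨hex.desc ψ h0, ?_⟩
    change hex.desc ψ h0 ≫ q = g
    rw [← cancel_epi b, ← Category.assoc, show b ≫ hex.desc ψ h0 = ψ from hex.g_desc ψ h0, hψ]

variable (k : Type u) [CommRing k] [X.Over (Spec (CommRingCat.of k))]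

include k in
/-- Global sections along a short exact sequence with vanishing cohomology of the kernel. -/
theorem bijective_unit_comp_of_van {S : ShortComplex X.Modules} (hS : S.ShortExact)
    (h0 : Subsingleton (Coh.HH X S.X₁ 0)) (h1 : Subsingleton (Coh.HH X S.X₁ 1)) :
    Function.Bijective fun t : Coh.structureModule X ⟶ S.X₂ => t ≫ S.g := by
  have key : Function.Bijective fun x : Γ(S.X₂, ⊤) => S.g.app ⊤ x := by
    have hb : Function.Bijective (CurveCoh17.hmap k S.g 0) := by
      refine ⟨(injective_iff_map_eq_zero _).2 fun x hx => ?_, fun z =>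
        (CurveCoh17.exact_hmap_hdelta k hS 0 z).1 (@Subsingleton.elim _ h1 _ _)⟩
      obtain ⟨y, rfl⟩ := (CurveCoh17.exact_hmap_hmap k hS 0 x).1 hx
      rw [@Subsingleton.elim _ h0 y 0, map_zero]
    refine ⟨fun x y hxy => ?_, fun z => ?_⟩
    · obtain ⟨x, rfl⟩ := (CurveCoh17.hh0 S.X₂).surjective x
      obtain ⟨y, rfl⟩ := (CurveCoh17.hh0 S.X₂).surjective y
      refine congrArg _ (hb.1 ((CurveCoh17.hh0 S.X₃).injective ?_))
      rw [CurveCoh17.hh0_hmap, CurveCoh17.hh0_hmap]
      exact hxy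
    · obtain ⟨w, hw⟩ := hb.2 ((CurveCoh17.hh0 S.X₃).symm z)
      refine ⟨CurveCoh17.hh0 S.X₂ w, ?_⟩
      show S.g.app ⊤ (CurveCoh17.hh0 S.X₂ w) = z
      rw [← CurveCoh17.hh0_hmap (A := k), hw, AddEquiv.apply_symm_apply]
  refine ⟨fun t t' ht => ?_, fun z => ?_⟩
  · rw [← Amp.secHom_gval t, ← Amp.secHom_gval t']
    refine congrArg _ (key.1 ?_)
    simp only [← Amp.gval_comp]
    exact congrArg Amp.gval ht
  · obtain ⟨x, hx⟩ := key.2 (Amp.gval z)
    refine ⟨M1.secHom x, ?_⟩
    show M1.secHom x ≫ S.g = z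
    rw [← Amp.secHom_gval (M1.secHom x ≫ S.g), ← Amp.secHom_gval z]
    refine congrArg M1.secHom ?_
    rw [Amp.gval_comp, Amp.gval_secHom]
    exact hx

section Restrict

variable (U : X.Opens)

/-- Restriction of homomorphisms into a module with the extension property. -/
theorem bijective_restrict_of_extU {H : X.Modules} (h : RH26.ExtU U H) (F : X.Modules) :
    Function.Bijective fun φ : F ⟶ H => (Scheme.Modules.restrictFunctor U.ι).map φ := by
  haveI := RH26.isIso_unit_of_extU h
  let adj := Scheme.Modules.restrictAdjunction U.ι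
  have hb : Function.Bijective fun φ : F ⟶ H => φ ≫ adj.unit.app H :=
    ⟨fun a b hab => (cancel_mono _).1 hab, fun g => ⟨g ≫ inv (adj.unit.app H), by simp⟩⟩
  convert ((adj.homEquiv F _).symm.bijective).comp hb using 1
  funext φ
  refine (adj.homEquiv F _).injective ?_
  rw [Function.comp_apply, Equiv.apply_symm_apply, adj.homEquiv_unit]
  exact (adj.unit.naturality φ).symm

/-- The structure module of an open subscheme, as a restriction. -/
abbrev resUnit : (Scheme.Modules.restrictFunctor U.ι).obj (Coh.structureModule X) ≅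
    Coh.structureModule (U : Scheme.{u}) :=
  Scheme.Modules.restrictUnitIso U.ι

/-- The quotient by a restricted ideal is the restriction of the quotient. -/
theorem exists_quot_iso (K : X.IdealSheafData) :
    ∃ ε : (Scheme.Modules.restrictFunctor U.ι).obj (ClSub.quotMod K) ≅ ClSub.quotMod (K.comap U.ι),
      (resUnit U).inv ≫ (Scheme.Modules.restrictFunctor U.ι).map (ClSub.toSubscheme K) ≫ ε.hom =
        ClSub.toSubscheme (K.comap U.ι) := by
  let a : Coh.structureModule (U : Scheme.{u}) ⟶ (Scheme.Modules.restrictFunctor U.ι).obj (ClSub.quotMod K) :=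
    (resUnit U).inv ≫ (Scheme.Modules.restrictFunctor U.ι).map (ClSub.toSubscheme K)
  let b := ClSub.toSubscheme (K.comap U.ι)
  haveI : Epi ((Scheme.Modules.restrictFunctor U.ι).map (ClSub.toSubscheme K)) :=
    haveI := (Scheme.Modules.restrictAdjunction U.ι).isLeftAdjoint
    inferInstance
  haveI : Epi a := epi_comp _ _
  have hiff : ∀ (W : (U : Scheme.{u}).Opens), IsAffineOpen W → ∀ s : Γ((U : Scheme.{u}), W),
      a.app W s = 0 ↔ b.app W s = 0 := by
    intro W hW s
    have h1 : a.app W s = 0 ↔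
        (U.ι.appIso W).inv s ∈ K.ideal ⟨U.ι ''ᵁ W, hW.image_of_isOpenImmersion U.ι⟩ := by
      rw [← K.ker_subschemeι_app, RingHom.mem_ker]
      exact Iff.rfl
    have h2 : b.app W s = 0 ↔ s ∈ (K.comap U.ι).ideal ⟨W, hW⟩ := by
      rw [← (K.comap U.ι).ker_subschemeι_app, RingHom.mem_ker]
      exact Iff.rfl
    rw [h1, h2, K.ideal_comap_of_isOpenImmersion]
    exact Iff.rfl
  have hab : kernel.ι a ≫ b = 0 := by
    refine ModLimH13.hom_ext_affine _ _ fun x => ⟨⊤, trivial, fun W _ hW s => ?_⟩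
    exact (hiff W hW _).1 (congrArg (fun φ => φ.app W s) (kernel.condition a))
  have hba : kernel.ι b ≫ a = 0 := by
    refine ModLimH13.hom_ext_affine _ _ fun x => ⟨⊤, trivial, fun W _ hW s => ?_⟩
    exact (hiff W hW _).2 (congrArg (fun φ => φ.app W s) (kernel.condition b))
  let c := Abelian.epiDesc a b hab
  let d := Abelian.epiDesc b a hba
  have hc : a ≫ c = b := Abelian.comp_epiDesc _ _ _
  have hd : b ≫ d = a := Abelian.comp_epiDesc _ _ _
  refine ⟨⟨c, d, ?_, ?_⟩, ?_⟩
  · rw [← cancel_epi a, ← Category.assoc, hc, hd, Category.comp_id]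
  · rw [← cancel_epi b, ← Category.assoc, hd, hc, Category.comp_id]
  · rw [← Category.assoc]
    exact hc

/-- Bijectivity descends to an open when both targets have the extension property. -/
theorem bijective_comp_restrict {K : X.IdealSheafData} (hO : RH26.ExtU U (Coh.structureModule X))
    (hQ : RH26.ExtU U (ClSub.quotMod K)) {F : X.Modules} {D : (U : Scheme.{u}).Modules}
    (e : (Scheme.Modules.restrictFunctor U.ι).obj F ≅ D)
    (h : Function.Bijective fun φ : F ⟶ Coh.structureModule X => φ ≫ ClSub.toSubscheme K) :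
    Function.Bijective fun φ : D ⟶ Coh.structureModule (U : Scheme.{u}) =>
      φ ≫ ClSub.toSubscheme (K.comap U.ι) := by
  obtain ⟨ε, hε⟩ := exists_quot_iso U K
  have hRO := bijective_restrict_of_extU U hO F
  have hRQ := bijective_restrict_of_extU U hQ F
  have key : ∀ φ : F ⟶ Coh.structureModule X,
      (e.inv ≫ (Scheme.Modules.restrictFunctor U.ι).map φ ≫ (resUnit U).hom) ≫ ClSub.toSubscheme (K.comap U.ι) =
        e.inv ≫ (Scheme.Modules.restrictFunctor U.ι).map (φ ≫ ClSub.toSubscheme K) ≫ ε.hom := fun φ => by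
    rw [← hε, Functor.map_comp]
    simp only [Category.assoc, Iso.hom_inv_id_assoc]
  refine ⟨fun ψ ψ' hψ => ?_, fun g => ?_⟩
  · obtain ⟨φ, hφ⟩ := hRO.2 (e.hom ≫ ψ ≫ (resUnit U).inv)
    obtain ⟨φ', hφ'⟩ := hRO.2 (e.hom ≫ ψ' ≫ (resUnit U).inv)
    simp only at hφ hφ' hψ
    have hψ1 : ψ = e.inv ≫ (Scheme.Modules.restrictFunctor U.ι).map φ ≫ (resUnit U).hom := by simp [hφ]
    have hψ2 : ψ' = e.inv ≫ (Scheme.Modules.restrictFunctor U.ι).map φ' ≫ (resUnit U).hom := by simp [hφ']
    rw [hψ1, hψ2, key, key, cancel_epi, cancel_mono] at hψ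
    rw [hψ1, hψ2, h.1 (hRQ.1 hψ)]
  · obtain ⟨p, hp⟩ := hRQ.2 (e.hom ≫ g ≫ ε.inv)
    obtain ⟨φ, hφ⟩ := h.2 p
    simp only at hp hφ
    refine ⟨e.inv ≫ (Scheme.Modules.restrictFunctor U.ι).map φ ≫ (resUnit U).hom, ?_⟩
    refine (key φ).trans ?_
    rw [hφ, hp]
    simp

end Restrict

end Groth.Agent.ES11
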