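import Groth.Agent.Lib.EnriquesSeveri11.Proper
import Groth.Agent.Lib.EnriquesSeveri11.HomBij
import Groth.Agent.Lib.DepthAlong11.DepthExtend
import Groth.Agent.Lib.KCoh4.Loc
import Groth.Agent.Lib.CubeField.DivSection
import Groth.Agent.Lib.RelAmple18.UnivClosed
import Groth.Agent.Lib.RelAmple18.Generation
import Groth.Agent.Lib.CurveCoh17.IdealPow
import Groth.Agent.Lib.SecDiv18.Basic
import Groth.Agent.Lib.BlowUpExist.Glue
import Groth.Agent.Lib.LocImm12.Factor
import Groth.Prelude.Def_Lef

/-!
# The Lefschetz condition for an ample divisor on a proper scheme over a field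
-/

set_option autoImplicit false
set_option linter.style.haveILetI false
set_option linter.unusedSectionVars false
set_option backward.isDefEq.respectTransparency false

universe u

open CategoryTheory CategoryTheory.Limits AlgebraicGeometry TopologicalSpace Opposite

noncomputable section

namespace Groth.Agent.ES11

open Groth.Agent

/-- The complement of the support of an ideal with ample inverse is affine. -/
theorem isAffineOpen_compl_support {A : Type u} [CommRing A] {X : Scheme.{u}} (π : X ⟶ Spec (CommRingCat.of A))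
    [UniversallyClosed π] {I : X.IdealSheafData} {L : X.Modules}
    (e : CohB1.tensorMod L (ClSub.idealMod I) ≅ Coh.structureModule X) (hamp : CohB1.IsAmple L) :
    IsAffineOpen (⟨(I.support : Set X)ᶜ, I.support.isClosed.isOpen_compl⟩ : X.Opens) := by
  have hI : PicF.IsInvertible (ClSub.idealMod I) :=
    M2.isInvertible_of_tensor_iso (Amp.isAmple_iff.1 hamp).1 (M2.tensorComm _ L ≪≫ e)
  obtain ⟨N, -, ⟨eN⟩, s, hs⟩ :=
    CubeField.exists_inverse_section_of_effCartier (SecDiv.isEffCartierIdeal_of_isInvertible I hI)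
  let f : N ≅ L := M2.inverseUnique eN (M2.tensorComm _ L ≪≫ e)
  have h := RA.isAffineOpen_genLocus_of_universallyClosed π hamp (s ≫ f.hom)
  rw [Amp.genLocus_comp_iso f] at h
  rwa [show (⟨(I.support : Set X)ᶜ, I.support.isClosed.isOpen_compl⟩ : X.Opens) = CohB1.genLocus N s from
    Opens.ext hs.symm]

variable {k : Type u} [Field k] {X : Scheme.{u}} [X.Over (Spec (CommRingCat.of k))]
  [IsProper (X ↘ (Spec (CommRingCat.of k)))]

include k in
/-- A closed set in an affine open of a proper scheme over a field consists of closed points. -/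
theorem isClosed_singleton_of_subset_affine {G : X.Opens} (hG : IsAffineOpen G) {Z : Set X} (hZ : IsClosed Z)
    (hZG : Z ⊆ G) {x : X} (hx : x ∈ Z) : IsClosed ({x} : Set X) := by
  let J := Scheme.IdealSheafData.vanishingIdeal ⟨Z, hZ⟩
  have hr : Set.range J.subschemeι = Z := by
    rw [Scheme.IdealSheafData.range_subschemeι]
    simp [J, hZ.closure_eq]
  haveI : IsAffine J.subscheme := by
    have h := hG.preimage J.subschemeι
    rw [show J.subschemeι ⁻¹ᵁ G = ⊤ from top_le_iff.1 fun w _ => hZG (hr ▸ ⟨w, rfl⟩)] at h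
    haveI : IsAffine ((⊤ : J.subscheme.Opens) : Scheme.{u}) := h
    exact IsAffine.of_isIso J.subscheme.topIso.inv
  let g := J.subschemeι ≫ (X ↘ Spec (CommRingCat.of k))
  haveI : IsAffineHom g := inferInstance
  haveI : IsFinite g := IsFinite.iff_isProper_and_isAffineHom.2 ⟨inferInstance, inferInstance⟩
  haveI : Finite J.subscheme := by
    have h := Scheme.Hom.finite_preimage g (Set.toFinite (Set.univ : Set (Spec (CommRingCat.of k))))
    exact Set.finite_univ_iff.1 (by simpa using h)
  haveI : JacobsonSpace X := LocallyOfFiniteType.jacobsonSpace (X ↘ Spec (CommRingCat.of k))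
  have hfin : (closure ({x} : Set X)).Finite :=
    (hr ▸ Set.finite_range _).subset (hZ.closure_subset_iff.2 (Set.singleton_subset_iff.2 hx))
  have h1 : closure (closure ({x} : Set X) ∩ closedPoints X) = closure ({x} : Set X) :=
    JacobsonSpace.closure_inter_closedPoints isClosed_closure
  have h2 : IsClosed (closure ({x} : Set X) ∩ closedPoints X) := by
    rw [← Set.biUnion_of_singleton (closure ({x} : Set X) ∩ closedPoints X)]
    exact (hfin.inter_of_left _).isClosed_biUnion fun y hy => hy.2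
  rw [h2.closure_eq] at h1
  have hxc : x ∈ closure ({x} : Set X) ∩ closedPoints X := h1.ge (subset_closure rfl)
  exact hxc.2

theorem depth_structureModule {Y : Scheme.{u}} (x : Y) :
    LocCoh.depth (Y.presheaf.stalk x) ((Coh.structureModule Y).presheaf.stalk x) =
      LocCoh.depth (Y.presheaf.stalk x) (Y.presheaf.stalk x) := by
  obtain ⟨eO⟩ := CurveCoh17.nonempty_stalk_equiv
    ((M2.isInvertible_iff_isFinLocFreeOfRank_one _).1 (PicLoc.isInvertible_structureModule Y)) x
  exact DepthLib.idealDepth_congr (eO.trans (LinearEquiv.funUnique (Fin 1) _ _))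

include k in
/-- A coherent module is covered by a sum of copies of one negative twist. -/
theorem exists_epi_negative {L L' : X.Modules} (hamp : CohB1.IsAmple L)
    (e : CohB1.tensorMod L L' ≅ Coh.structureModule X) {F : X.Modules} (hF : Coh.IsCoh F) :
    ∃ (a l : ℕ) (p : CohB1.tensorMod (FlatMod.freeMod X l) (CohB1.tensorPow L' a) ⟶ F), Epi p := by
  haveI : AlgebraicGeometry.IsNoetherian X := CohFound.isNoetherian_of_isProper (X ↘ Spec (CommRingCat.of k))
  obtain ⟨a, ha⟩ := RA.exists_globallyGenerated hamp F hF.1 hF.2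
  have hT : Coh.IsCoh (CohB1.tensorMod F (CohB1.tensorPow L a)) := CohFound.isCoh_tensor hF
    (Snapper.isCoh_of_isInvertible (M2.isInvertible_tensorPow (Amp.isAmple_iff.1 hamp).1 a))
  obtain ⟨l, p, hp⟩ := GrMod11.exists_epi_freeMod hT.1 hT.2 (ha a le_rfl)
  haveI := CohFound.epi_tensorMap p (CohB1.tensorPow L' a)
  exact ⟨a, l, M2.tensorMap p (𝟙 _) ≫ (M2.tensorAssoc _ _ _ ≪≫ M2.tensorIso (Iso.refl F) (powInvIso e a) ≪≫
    M2.tensorRUnit F).hom, epi_comp _ _⟩

include k in
/-- Homomorphisms from a coherent module into `O` agree with those into a high infinitesimal neighbourhood. -/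
theorem exists_forall_bijective_comp {I : X.IdealSheafData} {L : X.Modules}
    (e : CohB1.tensorMod L (ClSub.idealMod I) ≅ Coh.structureModule X) (hamp : CohB1.IsAmple L)
    (hdepth : ∀ x : X, IsClosed ({x} : Set X) → (2 : ℕ∞) ≤ LocCoh.depth (X.presheaf.stalk x) (X.presheaf.stalk x))
    {F : X.Modules} (hF : Coh.IsCoh F) :
    ∃ m₀ : ℕ, ∀ m : ℕ, m₀ ≤ m →
      Function.Bijective fun φ : F ⟶ Coh.structureModule X => φ ≫ ClSub.toSubscheme (I ^ m) := by
  haveI : AlgebraicGeometry.IsNoetherian X := CohFound.isNoetherian_of_isProper (X ↘ Spec (CommRingCat.of k))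
  let L' := ClSub.idealMod I
  have hL : PicF.IsInvertible L := (Amp.isAmple_iff.1 hamp).1
  have hL' : PicF.IsInvertible L' := M2.isInvertible_of_tensor_iso hL (M2.tensorComm _ L ≪≫ e)
  have htw : ∀ a l : ℕ, ∃ m₀ : ℕ, ∀ m : ℕ, m₀ ≤ m → Function.Bijective
      fun φ : CohB1.tensorMod (FlatMod.freeMod X l) (CohB1.tensorPow L' a) ⟶ Coh.structureModule X =>
        φ ≫ ClSub.toSubscheme (I ^ m) := by
    intro a l
    have hLa := M2.isInvertible_tensorPow hL a
    obtain ⟨m₀, hm⟩ := exists_forall_subsingleton_inverse k hamp e (Snapper.isCoh_of_isInvertible hLa) 1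
      fun x hx => by
        refine lt_of_lt_of_eq (lt_of_lt_of_le (by norm_num : ((1 : ℕ) : ℕ∞) < 2) (hdepth x hx)) ?_
        rw [← depth_structureModule x, ← depth_stalk_tensor_invertible (F := Coh.structureModule X) hLa x]
        obtain ⟨eO⟩ := CurveCoh17.nonempty_stalk_equiv ((M2.isInvertible_iff_isFinLocFreeOfRank_one _).1
          (M2.isInvertible_tensor (PicLoc.isInvertible_structureModule X) hLa)) x
        obtain ⟨eL⟩ := CurveCoh17.nonempty_stalk_equiv ((M2.isInvertible_iff_isFinLocFreeOfRank_one _).1 hLa) x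
        exact DepthLib.idealDepth_congr (eO.trans eL.symm)
    refine ⟨m₀, fun m hm' => ?_⟩
    refine bijective_comp_iso _ (M2.freeModTensorIso X l _).symm (bijective_comp_coprod _ ?_)
    refine bijective_comp_of_tensor _ (M2.tensorComm _ _ ≪≫ powInvIso e a : CohB1.tensorMod
      (CohB1.tensorPow L' a) (CohB1.tensorPow L a) ≅ Coh.structureModule X) ?_
    have hS := CohFound.shortExact_tensor_invertible (M2.shortExact_idealMod (I := I ^ m)) hLa
    obtain ⟨ep⟩ := CurveCoh17.nonempty_idealMod_pow (SecDiv.isEffCartierIdeal_of_isInvertible I hL') m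
    have hv : ∀ i : ℕ, i ≤ 1 →
        Subsingleton (Coh.HH X (CohB1.tensorMod (ClSub.idealMod (I ^ m)) (CohB1.tensorPow L a)) i) :=
      fun i hi => CMReg18.van_iso k (M2.tensorComm _ _ ≪≫ M2.tensorIso ep (Iso.refl _)) (hm m hm' i hi)
    exact bijective_unit_comp_of_van k hS (hv 0 zero_le_one) (hv 1 le_rfl)
  obtain ⟨a, l, p, hp⟩ := exists_epi_negative (k := k) hamp e hF
  haveI := hp
  have hPc : Coh.IsCoh (CohB1.tensorMod (FlatMod.freeMod X l) (CohB1.tensorPow L' a)) :=
    CohFound.isCoh_tensor (CohFound.isCoh_of_isFinLocFree (KFlat.Sch.isFinLocFree_freeMod _ l))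
      (Snapper.isCoh_of_isInvertible (M2.isInvertible_tensorPow hL' a))
  obtain ⟨a', l', p', hp'⟩ := exists_epi_negative (k := k) hamp e (M1.isCoh_kernel hPc hF.1 p)
  haveI := hp'
  have w : (p' ≫ kernel.ι p) ≫ p = 0 := by rw [Category.assoc, kernel.condition, comp_zero]
  have hex : (ShortComplex.mk (p' ≫ kernel.ι p) p w).Exact := by
    let φ : ShortComplex.mk (p' ≫ kernel.ι p) p w ⟶ ShortComplex.mk (kernel.ι p) p (kernel.condition p) :=
      { τ₁ := p', τ₂ := 𝟙 _, τ₃ := 𝟙 _ }
    haveI : Epi φ.τ₁ := hp'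
    haveI : IsIso φ.τ₂ := inferInstanceAs (IsIso (𝟙 _))
    haveI : Mono φ.τ₃ := inferInstanceAs (Mono (𝟙 _))
    exact (ShortComplex.exact_iff_of_epi_of_isIso_of_mono φ).2 (ShortComplex.exact_kernel p)
  obtain ⟨m₁, h₁⟩ := htw a l
  obtain ⟨m₂, h₂⟩ := htw a' l'
  exact ⟨max m₁ m₂, fun m hm => bijective_comp_of_presentation _ _ p w hex (h₂ m (le_of_max_le_right hm)).1
    (h₁ m (le_of_max_le_left hm))⟩

theorem toSubscheme_quotMap {U : Scheme.{u}} {I J : U.IdealSheafData} (h : I ≤ J) :
    ClSub.toSubscheme I ≫ Lef.quotMap h = ClSub.toSubscheme J := by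
  ext W s
  exact (ConcreteCategory.congr_hom
    (Scheme.Hom.congr_app (Scheme.IdealSheafData.inclusion_subschemeι h).symm W) s).symm

include k in
/-- The Lefschetz condition for an ample divisor when the depth at closed points is at least two. -/
theorem lefCond_of_ample {I : X.IdealSheafData} {L : X.Modules}
    (e : CohB1.tensorMod L (ClSub.idealMod I) ≅ Coh.structureModule X) (hamp : CohB1.IsAmple L)
    (hdepth : ∀ x : X, IsClosed ({x} : Set X) → (2 : ℕ∞) ≤ LocCoh.depth (X.presheaf.stalk x) (X.presheaf.stalk x)) :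
    Lef.LefCond X I := by
  haveI : AlgebraicGeometry.IsNoetherian X := CohFound.isNoetherian_of_isProper (X ↘ Spec (CommRingCat.of k))
  intro U hU D hD
  have hG := isAffineOpen_compl_support (X ↘ Spec (CommRingCat.of k)) e hamp
  have hclosed : ∀ z : X, z ∉ U → IsClosed ({z} : Set X) := fun z hz =>
    isClosed_singleton_of_subset_affine (k := k) hG U.isOpen.isClosed_compl
      (Set.compl_subset_compl.2 hU) hz
  have hO : Coh.IsCoh (Coh.structureModule X) :=
    Snapper.isCoh_of_isInvertible (PicLoc.isInvertible_structureModule X)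
  haveI := hO.1
  have hextO : RH26.ExtU U (Coh.structureModule X) := DepthAlong11.extU_of_hasSlicePair _
    (DepthAlong11.hasSlicePair_of_depth _ hO U fun z hz => by
      rw [depth_structureModule]; exact hdepth z (hclosed z hz))
  have hextQ : ∀ n : ℕ, RH26.ExtU U (ClSub.quotMod (I ^ (n + 1))) := fun n => by
    have hQc : Coh.IsCoh (ClSub.quotMod (I ^ (n + 1))) := CohFound.isCoh_push_closedImm _
      (CohFound.isCoh_of_isFinLocFree (M2.isFinLocFree_of_isInvertible (PicLoc.isInvertible_structureModule _)))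
    haveI := hQc.1
    refine DepthAlong11.extU_of_hasSlicePair _ (DepthAlong11.hasSlicePair_of_depth _ hQc U fun z hz => ?_)
    rw [depth_push_stalk_notMem]
    · exact le_top
    · rw [Scheme.IdealSheafData.range_subschemeι, Scheme.IdealSheafData.support_pow_succ]
      exact fun h => hz (hU h)
  haveI : AlgebraicGeometry.IsNoetherian (U : Scheme.{u}) := LocImm12.isNoetherian_of_isOpenImmersion U.ι
  obtain ⟨F, α, hF, hα⟩ := KCoh4.exists_ext U.ι (CohFound.isCoh_of_isFinLocFree hD)
  haveI : IsIso ((Scheme.Modules.restrictFunctor U.ι).map α) := hα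
  let eD : (Scheme.Modules.restrictFunctor U.ι).obj F ≅ D :=
    asIso ((Scheme.Modules.restrictFunctor U.ι).map α) ≪≫
      asIso ((Scheme.Modules.restrictAdjunction U.ι).counit.app D)
  obtain ⟨m₀, hm⟩ := exists_forall_bijective_comp (k := k) e hamp hdepth hF
  have hb : ∀ n : ℕ, m₀ ≤ n + 1 → Function.Bijective fun φ : D ⟶ Coh.structureModule (U : Scheme.{u}) =>
      φ ≫ ClSub.toSubscheme ((I.comap U.ι) ^ (n + 1)) := fun n hn => by
    rw [← BlowUpExist.comap_pow]
    exact bijective_comp_restrict U hextO (hextQ n) eD (hm (n + 1) hn)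
  refine ⟨fun φ ψ h => (hb m₀ (Nat.le_succ _)).1 (h m₀), fun y hy => ?_⟩
  obtain ⟨φ, hφ⟩ := (hb m₀ (Nat.le_succ _)).2 (y m₀)
  simp only at hφ
  have hq : ∀ n : ℕ, ClSub.toSubscheme ((I.comap U.ι) ^ (n + 1 + 1)) ≫ Lef.quotMap (Lef.pow_succ_le _ n) =
      ClSub.toSubscheme ((I.comap U.ι) ^ (n + 1)) := fun n => toSubscheme_quotMap _
  have hup : ∀ j : ℕ, φ ≫ ClSub.toSubscheme ((I.comap U.ι) ^ (m₀ + j + 1)) = y (m₀ + j) := by
    intro j
    induction j with
    | zero => exact hφ
    | succ j ih =>
      obtain ⟨ψ, hψ⟩ := (hb (m₀ + j + 1) (by omega)).2 (y (m₀ + j + 1))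
      simp only at hψ
      have : ψ ≫ ClSub.toSubscheme ((I.comap U.ι) ^ (m₀ + j + 1)) = y (m₀ + j) := by
        rw [← hq, ← Category.assoc, hψ]
        exact hy (m₀ + j)
      rw [(hb (m₀ + j) (by omega)).1 (this.trans ih.symm)] at hψ
      exact hψ
  refine ⟨φ, fun n => ?_⟩
  by_cases hn : m₀ ≤ n
  · obtain ⟨j, rfl⟩ := Nat.exists_eq_add_of_le hn
    exact hup j
  · have hdown : ∀ j : ℕ, j ≤ m₀ → φ ≫ ClSub.toSubscheme ((I.comap U.ι) ^ (m₀ - j + 1)) = y (m₀ - j) := by
      intro j
      induction j with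
      | zero => exact fun _ => hφ
      | succ j ih =>
        intro hj
        have h1 := ih (by omega)
        rw [show m₀ - j = m₀ - (j + 1) + 1 by omega] at h1
        rw [← hq, ← Category.assoc, h1]
        exact hy _
    have := hdown (m₀ - n) (by omega)
    rwa [show m₀ - (m₀ - n) = n by omega] at this

end Groth.Agent.ES11
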