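import Groth.Agent.Lib.CMReg18.Proj
import Groth.Agent.Lib.Snapper.Section
import Groth.Agent.Lib.WeakAss18.Iso
import Groth.Agent.Lib.CohFound.AmpleCrit
import Groth.Agent.Lib.CurveCoh17.Skyscraper
import Groth.Agent.Lib.Cyc26.Stalk
import Groth.Agent.Lib.Depth.More
import Groth.Agent.Lib.CMReg18.Vanish
import Groth.Agent.Lib.CohFound.SerreVan

/-!
# Vanishing for negative twists forces depth at closed points
-/

set_option autoImplicit false
set_option linter.style.haveILetI false
set_option linter.unusedSectionVars false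
set_option backward.isDefEq.respectTransparency false

universe u

open CategoryTheory CategoryTheory.Limits AlgebraicGeometry TopologicalSpace Opposite TensorProduct
open scoped Pointwise

noncomputable section

namespace Groth.Agent.ES11

open Groth.Agent

variable {X : Scheme.{u}}

/-- An element killed by the maximal ideal at a closed point is the germ of a global section. -/
theorem exists_global_of_killed [IsLocallyNoetherian X] {M : X.Modules} (hM : Coh.IsQCoh M) {x : X}
    (hx : IsClosed ({x} : Set X)) (z : M.presheaf.stalk x)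
    (hz : ∀ a ∈ IsLocalRing.maximalIdeal (X.presheaf.stalk x), a • z = 0) :
    ∃ σ : Γ(M, ⊤), M.presheaf.germ ⊤ x trivial σ = z := by
  classical
  haveI := hM
  obtain ⟨U₀, hxU₀, s₀, hs₀⟩ := M.presheaf.exists_germ_eq z
  obtain ⟨U, hU, hxU, hle⟩ := exists_isAffineOpen_mem_and_subset (U := U₀) hxU₀
  let s := M.presheaf.map (homOfLE hle).op s₀
  have hs : M.presheaf.germ U x hxU s = z := (M.presheaf.germ_res_apply (homOfLE hle) x hxU s₀).trans hs₀
  let P := hU.primeIdealOf ⟨x, hxU⟩
  haveI : IsNoetherianRing Γ(X, U) := IsLocallyNoetherian.component_noetherian ⟨U, hU⟩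
  obtain ⟨T, hT⟩ := (IsNoetherian.noetherian P.asIdeal : P.asIdeal.FG)
  have hzero : ∀ a ∈ T, ∃ W : X.Opens, x ∈ W ∧ ∀ y (hy : y ∈ U), y ∈ W →
      M.presheaf.germ U y hy (a • s) = 0 := fun a ha => by
    have haP : a ∈ P.asIdeal := hT ▸ Ideal.subset_span ha
    have h0 : M.presheaf.germ U x hxU (a • s) = 0 := by
      rw [M1.germ_smul, hs]
      refine hz _ ((IsLocalRing.mem_maximalIdeal _).mpr fun hu => ?_)
      exact (M1.isUnit_germ_iff hU hxU a).mp hu haP
    obtain ⟨W, hxW, i, i', e⟩ := M.presheaf.germ_eq x hxU hxU (a • s) 0 (h0.trans (map_zero _).symm)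
    exact ⟨W, hxW, fun y hy hyW => by
      rw [← M.presheaf.germ_res_apply i y hyW, e, map_zero, map_zero]⟩
  choose! W hxW hW using hzero
  let V : X.Opens := U ⊓ T.inf W
  have hxV : x ∈ V := by
    refine ⟨hxU, ?_⟩
    have h : ∀ T' : Finset Γ(X, U), T' ⊆ T → x ∈ T'.inf W := by
      intro T'
      induction T' using Finset.induction_on with
      | empty => intro _; rw [Finset.inf_empty]; trivial
      | insert a T' _ ih =>
        intro h
        rw [Finset.inf_insert]
        exact ⟨hxW a (h (Finset.mem_insert_self a T')), ih ((Finset.subset_insert a T').trans h)⟩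
    exact h T subset_rfl
  have hoff : ∀ y (hy : y ∈ U), y ∈ V → y ≠ x → M.presheaf.germ U y hy s = 0 := fun y hy hyV hne => by
    have hnle : ¬ P.asIdeal ≤ (hU.primeIdealOf ⟨y, hy⟩).asIdeal := fun hle' => hne <| by
      have h := ((PrimeSpectrum.le_iff_specializes P (hU.primeIdealOf ⟨y, hy⟩)).mp hle').map
        hU.fromSpec.continuous
      rw [hU.fromSpec_primeIdealOf, hU.fromSpec_primeIdealOf] at h
      simpa using h.mem_closed hx rfl
    obtain ⟨a, haT, hay⟩ : ∃ a ∈ T, a ∉ (hU.primeIdealOf ⟨y, hy⟩).asIdeal := by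
      by_contra h
      push Not at h
      refine hnle ?_
      rw [← hT]
      exact Ideal.span_le.mpr h
    have h0 := hW a haT y hy ((Finset.inf_le (f := W) haT) hyV.2)
    rw [M1.germ_smul] at h0
    obtain ⟨c, hc⟩ := (M1.isUnit_germ_iff hU hy a).mpr hay
    rw [← one_smul (X.presheaf.stalk y) (M.presheaf.germ U y hy s), ← Units.inv_mul c, mul_smul, hc, h0,
      smul_zero]
  let f : ∀ y : (⊤ : X.Opens), (M.presheaf.stalk y.1 : Type u) := fun y =>
    if h : y.1 = x then (by rw [h]; exact z) else 0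
  have hfx : f ⟨x, trivial⟩ = z := by simp [f]
  have hfne : ∀ y : (⊤ : X.Opens), y.1 ≠ x → f y = 0 := fun y hy => dif_neg hy
  obtain ⟨σ, hσ, -⟩ := Curve17.existsUnique_of_germPred M f fun y => by
    by_cases h : y.1 = x
    · refine ⟨V, h.symm ▸ hxV, homOfLE le_top, M.presheaf.map (homOfLE (inf_le_left : V ≤ U)).op s,
        fun w => ?_⟩
      obtain ⟨w, hw⟩ := w
      refine Eq.trans ?_ (M.presheaf.germ_res_apply (homOfLE (inf_le_left : V ≤ U)) w hw s).symm
      by_cases hw' : w = x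
      · subst hw'
        exact hfx.trans hs.symm
      · exact (hfne _ hw').trans (hoff w hw.1 hw hw').symm
    · refine ⟨⟨{x}ᶜ, hx.isOpen_compl⟩, h, homOfLE le_top, 0, fun w => ?_⟩
      obtain ⟨w, hw⟩ := w
      have hw' : w ≠ x := hw
      exact (hfne _ hw').trans (map_zero _).symm
  exact ⟨σ, (hσ ⟨x, trivial⟩).trans (by simp [f])⟩

variable [IsNoetherian X]

/-- No global sections means positive depth at closed points. -/
theorem one_le_depth_of_subsingleton {M : X.Modules} (hM : Coh.IsCoh M) {x : X} (hx : IsClosed ({x} : Set X))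
    (h : Subsingleton (Coh.HH X M 0)) :
    (1 : ℕ∞) ≤ LocCoh.depth (X.presheaf.stalk x) (M.presheaf.stalk x) := by
  haveI := M1.finite_stalk hM.1 hM.2 x
  by_contra hd
  have hall : (IsLocalRing.maximalIdeal (X.presheaf.stalk x) : Set (X.presheaf.stalk x)) ⊆
      ⋃ p ∈ associatedPrimes (X.presheaf.stalk x) (M.presheaf.stalk x), (p : Set (X.presheaf.stalk x)) := by
    intro a ha
    rw [biUnion_associatedPrimes_eq_compl_regular]
    exact fun hreg => hd (DepthLib.one_le_idealDepth_of_regular ha hreg)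
  obtain ⟨p, hp, hle⟩ := (Ideal.subset_union_prime_finite (associatedPrimes.finite _ _) (f := id) ⊥ ⊥
    fun q hq _ _ => hq.1).1 hall
  obtain rfl : p = IsLocalRing.maximalIdeal _ :=
    ((IsLocalRing.maximalIdeal.isMaximal _).eq_of_le hp.1.ne_top hle).symm
  obtain ⟨-, z, hz⟩ := isAssociatedPrime_iff.1 hp
  have hkill : ∀ a ∈ IsLocalRing.maximalIdeal (X.presheaf.stalk x), a • z = 0 := fun a ha => by
    rw [hz, Submodule.mem_colon_singleton, Submodule.mem_bot] at ha
    exact ha
  obtain ⟨σ, hσ⟩ := exists_global_of_killed hM.1 hx z hkill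
  haveI : Subsingleton Γ(M, ⊤) := (CurveCoh17.hh0 M).toEquiv.subsingleton_congr.1 h
  have hz0 : z = 0 := by rw [← hσ, Subsingleton.elim σ 0, map_zero]
  have h1 : (1 : X.presheaf.stalk x) ∈ IsLocalRing.maximalIdeal (X.presheaf.stalk x) := by
    rw [hz, Submodule.mem_colon_singleton, Submodule.mem_bot, hz0, smul_zero]
  exact (IsLocalRing.maximalIdeal.isMaximal _).ne_top ((Ideal.eq_top_iff_one _).2 h1)

/-- A point with positive depth is not weakly associated. -/
theorem not_isWeakAssPoint_of_depth {M : X.Modules} (hM : Coh.IsCoh M) {x : X}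
    (h : (1 : ℕ∞) ≤ LocCoh.depth (X.presheaf.stalk x) (M.presheaf.stalk x)) :
    ¬ Curv2.IsWeakAssPoint M x := fun hw => by
  haveI := M1.finite_stalk hM.1 hM.2 x
  haveI : Nontrivial (M.presheaf.stalk x) :=
    not_subsingleton_iff_nontrivial.1 (WA.not_subsingleton_of_isWeakAssPoint hw)
  obtain ⟨a, ha, hreg⟩ := DepthLib.exists_isSMulRegular_of_one_le_idealDepth
    (DepthLib.smul_top_ne_top (IsLocalRing.maximalIdeal.isMaximal _).ne_top) h
  obtain ⟨m, hm⟩ := hw
  obtain ⟨j, hj⟩ := WA.exists_pow_smul_eq_zero hm ha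
  exact WA.ne_zero_of_radical_ann hm ((hreg.pow j).right_eq_zero_of_smul hj)

/-- The stalk of multiplication by a section of an invertible module. -/
theorem exists_stalk_mul {N : X.Modules} (hN : PicF.IsInvertible N) (φ : N ⟶ Coh.structureModule X)
    (F : X.Modules) {x : X} (hx : ¬ Function.Surjective (CurveCoh17.stalkLin φ x)) :
    ∃ a ∈ IsLocalRing.maximalIdeal (X.presheaf.stalk x),
      (∀ v : F.presheaf.stalk x, ∃ w, CurveCoh17.stalkLin (Snapper.mulMap φ F) x w = a • v) ∧
      (∀ w, ∃ v, CurveCoh17.stalkLin (Snapper.mulMap φ F) x w = a • v) ∧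
      (Function.Injective (CurveCoh17.stalkLin (Snapper.mulMap φ F) x) → IsSMulRegular (F.presheaf.stalk x) a) := by
  let R := X.presheaf.stalk x
  obtain ⟨eN⟩ := CurveCoh17.nonempty_stalk_equiv ((M2.isInvertible_iff_isFinLocFreeOfRank_one N).1 hN) x
  obtain ⟨eO⟩ := CurveCoh17.nonempty_stalk_equiv
    ((M2.isInvertible_iff_isFinLocFreeOfRank_one _).1 (PicLoc.isInvertible_structureModule X)) x
  let uN : (N.presheaf.stalk x) ≃ₗ[R] R := eN.trans (LinearEquiv.funUnique (Fin 1) R R)
  let uO : ((Coh.structureModule X).presheaf.stalk x) ≃ₗ[R] R := eO.trans (LinearEquiv.funUnique (Fin 1) R R)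
  let a : R := uO (CurveCoh17.stalkLin φ x (uN.symm 1))
  have hφ : ∀ c, uO (CurveCoh17.stalkLin φ x c) = uN c * a := fun c => by
    have hc : c = uN c • uN.symm 1 := uN.injective (by rw [map_smul, uN.apply_symm_apply, smul_eq_mul, mul_one])
    conv_lhs => rw [hc, map_smul, map_smul, smul_eq_mul]
  have ha : a ∈ IsLocalRing.maximalIdeal R := (IsLocalRing.mem_maximalIdeal _).mpr fun hu => hx fun b => by
    obtain ⟨c, hc⟩ := hu
    refine ⟨uN.symm (uO b * ↑c⁻¹), uO.injective ?_⟩
    rw [hφ, uN.apply_symm_apply, mul_assoc, ← hc, Units.inv_mul, mul_one]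
  let L : (Coh.structureModule X).presheaf.stalk x ⊗[R] F.presheaf.stalk x →ₗ[R] F.presheaf.stalk x :=
    (CurveCoh17.stalkLin (M2.tensorLUnit F).hom x).comp
      (M2.stalkEquiv (Coh.structureModule X) F x).symm.toLinearMap
  have hLb : Function.Bijective L :=
    (Snapper.bijective_stalkLin_iso (M2.tensorLUnit F) x).comp
      (M2.stalkEquiv (Coh.structureModule X) F x).symm.bijective
  let T : F.presheaf.stalk x ≃ₗ[R] F.presheaf.stalk x :=
    (TensorProduct.lid R (F.presheaf.stalk x)).symm.trans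
      ((LinearEquiv.rTensor (F.presheaf.stalk x) uO.symm).trans (LinearEquiv.ofBijective L hLb))
  have hkey : ∀ (c : N.presheaf.stalk x) (v : F.presheaf.stalk x),
      CurveCoh17.stalkLin (Snapper.mulMap φ F) x ((M2.stalkEquiv N F x).symm (c ⊗ₜ v)) = a • (uN c • T v) := by
    intro c v
    rw [Snapper.mulMap, Snapper.stalkLin_comp']
    have h1 : CurveCoh17.stalkLin (M2.tensorMap φ (𝟙 F)) x ((M2.stalkEquiv N F x).symm (c ⊗ₜ v)) =
        (M2.stalkEquiv (Coh.structureModule X) F x).symm (CurveCoh17.stalkLin φ x c ⊗ₜ v) := by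
      refine (M2.stalkEquiv _ F x).injective ?_
      rw [CurveCoh17.stalkEquiv_natural, LinearEquiv.apply_symm_apply, LinearEquiv.apply_symm_apply,
        LinearMap.rTensor_tmul]
    rw [h1]
    change L (CurveCoh17.stalkLin φ x c ⊗ₜ v) = _
    rw [← uO.symm_apply_apply (CurveCoh17.stalkLin φ x c), hφ,
      show uN c * a = (uN c * a) • (1 : R) from (mul_one _).symm, map_smul, ← TensorProduct.smul_tmul',
      map_smul, mul_comm, mul_smul]
    rfl
  refine ⟨a, ha, fun v => ⟨(M2.stalkEquiv N F x).symm (uN.symm 1 ⊗ₜ T.symm v), by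
    rw [hkey, uN.apply_symm_apply, one_smul, T.apply_symm_apply]⟩, fun w => ?_, fun hinj => ?_⟩
  · obtain ⟨w, rfl⟩ := (M2.stalkEquiv N F x).symm.surjective w
    induction w using TensorProduct.induction_on with
    | zero => exact ⟨0, by rw [map_zero, map_zero, smul_zero]⟩
    | tmul c v => exact ⟨_, hkey c v⟩
    | add p q hp hq =>
      obtain ⟨v, hv⟩ := hp
      obtain ⟨v', hv'⟩ := hq
      exact ⟨v + v', by rw [map_add, map_add, hv, hv', smul_add]⟩
  · refine (isSMulRegular_iff_right_eq_zero_of_smul).mpr fun v hv => ?_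
    have h0 := hkey (uN.symm 1) (T.symm v)
    rw [uN.apply_symm_apply, one_smul, T.apply_symm_apply, hv] at h0
    have h1 := (M2.stalkEquiv N F x).symm.injective.eq_iff.mp
      ((hinj (h0.trans (map_zero _).symm)).trans (map_zero _).symm)
    let Φ := (TensorProduct.lid R (F.presheaf.stalk x)).toLinearMap.comp (uN.toLinearMap.rTensor (F.presheaf.stalk x))
    have h2 : Φ (uN.symm 1 ⊗ₜ T.symm v) = 0 := (congrArg Φ h1).trans (map_zero Φ)
    have h3 : Φ (uN.symm 1 ⊗ₜ T.symm v) = T.symm v := by simp [Φ]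
    rw [← T.apply_symm_apply v, ← h3, h2, map_zero]

variable {k : Type u} [CommRing k] [X.Over (Spec (CommRingCat.of k))]

/-- Tensoring with an invertible module does not change the depth. -/
theorem depth_stalk_tensor_invertible {F N : X.Modules} (hN : PicF.IsInvertible N) (x : X) :
    LocCoh.depth (X.presheaf.stalk x) ((CohB1.tensorMod F N).presheaf.stalk x) =
      LocCoh.depth (X.presheaf.stalk x) (F.presheaf.stalk x) := by
  obtain ⟨eN⟩ := CurveCoh17.nonempty_stalk_equiv ((M2.isInvertible_iff_isFinLocFreeOfRank_one N).1 hN) x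
  exact DepthLib.idealDepth_congr ((M2.stalkEquiv F N x).trans ((TensorProduct.congr (LinearEquiv.refl _ _)
    (eN.trans (LinearEquiv.funUnique (Fin 1) (X.presheaf.stalk x) (X.presheaf.stalk x)))).trans
    (TensorProduct.rid _ _)))

include k in
/-- If negative twists by an ample module have no cohomology up to degree `n`, the depth at closed points
exceeds `n`. -/
theorem lt_depth_of_negVan (D : CMReg18.TwistData X) (hA : CohB1.IsAmple (D.O 1)) : ∀ (n : ℕ) {F : X.Modules},
    Coh.IsCoh F → (∀ i : ℕ, i ≤ n → ∃ m₀ : ℤ, ∀ m : ℤ, m₀ ≤ m → Subsingleton (Coh.HH X (D.tw F (-m)) i)) →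
    ∀ x : X, IsClosed ({x} : Set X) → (n : ℕ∞) < LocCoh.depth (X.presheaf.stalk x) (F.presheaf.stalk x) := by
  have hpos : ∀ {F : X.Modules}, Coh.IsCoh F → (∃ m₀ : ℤ, ∀ m : ℤ, m₀ ≤ m →
      Subsingleton (Coh.HH X (D.tw F (-m)) 0)) → ∀ x : X, IsClosed ({x} : Set X) →
        (1 : ℕ∞) ≤ LocCoh.depth (X.presheaf.stalk x) (F.presheaf.stalk x) := by
    intro F hF ⟨m₀, hm⟩ x hx
    rw [← depth_stalk_tensor_invertible (D.inv (-m₀)) x]
    exact one_le_depth_of_subsingleton
      (CohFound.isCoh_tensor hF (Snapper.isCoh_of_isInvertible (D.inv (-m₀)))) hx (hm m₀ le_rfl)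
  intro n
  induction n with
  | zero =>
    intro F hF h x hx
    exact (ENat.add_one_le_iff (ENat.natCast_ne_top 0)).1 (by simpa using hpos hF (h 0 le_rfl) x hx)
  | succ n ih =>
    intro F hF h x hx
    haveI := hF.1
    haveI := M1.finite_stalk hF.1 hF.2 x
    have hdep : ∀ y : X, IsClosed ({y} : Set X) →
        (1 : ℕ∞) ≤ LocCoh.depth (X.presheaf.stalk y) (F.presheaf.stalk y) := fun y hy =>
      hpos hF (h 0 (Nat.zero_le _)) y hy
    have hZ : {y : X | Curv2.IsWeakAssPoint F y}.Finite :=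
      (WA.finite_weakAss hF.1 hF.2 (U := ⊤) isCompact_univ).subset fun y hy => ⟨trivial, hy⟩
    obtain ⟨d, G, ⟨s, hs⟩, hZG, hGU, -⟩ := Amp.exists_affine_hasSec_finite hA hZ (U := ⟨{x}ᶜ, hx.isOpen_compl⟩)
      fun y hy (hyx : y = x) => not_isWeakAssPoint_of_depth hF (hdep x hx) (hyx ▸ hy)
    let P := D.O (((d + 1 : ℕ) : ℤ))
    let N := D.O (-((d + 1 : ℕ) : ℤ))
    let e : CohB1.tensorMod P N ≅ Coh.structureModule X :=
      D.add _ _ ≪≫ eqToIso (by rw [add_neg_cancel]) ≪≫ D.zero
    let φ := Snapper.secMap (s ≫ (D.powIso (d + 1)).hom) e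
    have hsurj : ∀ y : X, Function.Surjective (CurveCoh17.stalkLin φ y) ↔ y ∈ G := fun y => by
      rw [Snapper.surjective_secMap_iff (D.inv _) (D.inv _), Amp.genLocus_comp_iso, hs]
    haveI hmono : Mono (Snapper.mulMap φ F) :=
      Snapper.mono_mulMap (D.inv _) φ hF.1 fun y hy => (hsurj y).2 (hZG hy)
    let S : ShortComplex X.Modules := ShortComplex.mk (Snapper.mulMap φ F)
      (cokernel.π (Snapper.mulMap φ F)) (cokernel.condition _)
    have hS : S.ShortExact := { exact := ShortComplex.exact_cokernel _ }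
    have hS1c : Coh.IsCoh S.X₁ := CohFound.isCoh_tensor (Snapper.isCoh_of_isInvertible (D.inv _)) hF
    have hC : Coh.IsCoh S.X₃ := M1.isCoh_cokernel hS1c.1 hF _
    have hvan : ∀ i : ℕ, i ≤ n → ∃ m₀ : ℤ, ∀ m : ℤ, m₀ ≤ m → Subsingleton (Coh.HH X (D.tw S.X₃ (-m)) i) := by
      intro i hi
      obtain ⟨m₁, h₁⟩ := h i (by omega)
      obtain ⟨m₂, h₂⟩ := h (i + 1) (by omega)
      refine ⟨max m₁ m₂, fun m hm => CMReg18.van₃ k (CohFound.shortExact_tensor_invertible hS (D.inv (-m)))
        (h₁ m (le_of_max_le_left hm)) (CMReg18.van_iso k (?_ : D.tw F (-(m + ((d + 1 : ℕ) : ℤ))) ≅ D.tw S.X₁ (-m))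
          (h₂ _ (by have := le_of_max_le_right hm; omega)))⟩
      exact D.twIso F (by push_cast; ring) ≪≫ (D.twTwist F (-((d + 1 : ℕ) : ℤ)) (-m)).symm ≪≫
        M2.tensorIso (M2.tensorComm F N) (Iso.refl _)
    have hG : (n : ℕ∞) < LocCoh.depth (X.presheaf.stalk x) (S.X₃.presheaf.stalk x) := ih hC hvan x hx
    obtain ⟨a, ha, hsur, hran, hreg⟩ := exists_stalk_mul (D.inv _) φ F (x := x)
      (fun hsu => hGU ((hsurj x).1 hsu) rfl)
    obtain ⟨hinj, hex, hq⟩ := Cyc26.stalkLin_exact hS x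
    have hker : (a • (⊤ : Submodule (X.presheaf.stalk x) (F.presheaf.stalk x))) =
        LinearMap.ker (Cyc26.stalkLin S.g x) := by
      refine le_antisymm ?_ fun v hv => ?_
      · rintro _ ⟨v, -, rfl⟩
        obtain ⟨w, hw⟩ := hsur v
        exact (hex _).2 ⟨w, hw⟩
      · obtain ⟨w, hw⟩ := (hex v).1 hv
        obtain ⟨v', hv'⟩ := hran w
        exact ⟨v', trivial, hv'.symm.trans hw⟩
    have e' : QuotSMulTop a (F.presheaf.stalk x) ≃ₗ[X.presheaf.stalk x] S.X₃.presheaf.stalk x :=
      (Submodule.quotEquivOfEq _ _ hker).trans ((Cyc26.stalkLin S.g x).quotKerEquivOfSurjective hq)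
    have h1 : ((n + 1 : ℕ) : ℕ∞) ≤ LocCoh.idealDepth (IsLocalRing.maximalIdeal (X.presheaf.stalk x))
        (QuotSMulTop a (F.presheaf.stalk x)) := by
      rw [DepthLib.idealDepth_congr e']
      exact_mod_cast Order.add_one_le_of_lt hG
    have h2 := (DepthLib.natCast_le_idealDepth_quotSMulTop_iff ha (hreg hinj) (n + 1)).1 h1
    exact (ENat.add_one_le_iff (ENat.natCast_ne_top _)).1 (by exact_mod_cast h2)

end Groth.Agent.ES11
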