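import Groth.Agent.Lib.EnriquesSeveri11.NegVan
import Groth.Agent.Lib.EnriquesSeveri11.DepthVan
import Groth.Agent.Lib.CohFound.ClosedImmPush
import Groth.Agent.Lib.CohFound.DevissageModel
import Groth.Agent.Lib.CohFound.AffMor
import Groth.Agent.Lib.CohFound.EmbedPow
import Groth.Agent.Lib.CohFound.ProperFinite
import Groth.Agent.Lib.FlatDepth.Fibre

/-!
# Enriques–Severi–Zariski vanishing on a proper scheme over a field
-/

set_option autoImplicit false
set_option linter.style.haveILetI false
set_option linter.unusedSectionVars false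
set_option backward.isDefEq.respectTransparency false

universe u

open CategoryTheory CategoryTheory.Limits AlgebraicGeometry TopologicalSpace

noncomputable section

namespace Groth.Agent.ES11

open Groth.Agent

section Push

variable {X P : Scheme.{u}} (j : X ⟶ P) [IsClosedImmersion j]

/-- The depth of a stalk of a direct image along a closed immersion. -/
theorem depth_push_stalk (N : X.Modules) (z : X) :
    LocCoh.depth (P.presheaf.stalk (j z)) (((Scheme.Modules.pushforward j).obj N).presheaf.stalk (j z)) =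
      LocCoh.depth (X.presheaf.stalk z) (N.presheaf.stalk z) := by
  letI : Algebra (P.presheaf.stalk (j z)) (X.presheaf.stalk z) := (j.stalkMap z).hom.toAlgebra
  letI : Module (P.presheaf.stalk (j z)) (N.presheaf.stalk z) := Module.compHom _ (j.stalkMap z).hom
  haveI : IsScalarTower (P.presheaf.stalk (j z)) (X.presheaf.stalk z) (N.presheaf.stalk z) :=
    IsScalarTower.of_algebraMap_smul fun r n => rfl
  let g := AddEquiv.ofBijective (CohFound.pushStalk j N z).hom (CohFound.bijective_pushStalk j N z)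
  let gl : ((Scheme.Modules.pushforward j).obj N).presheaf.stalk (j z) ≃ₗ[P.presheaf.stalk (j z)]
      N.presheaf.stalk z :=
    { g with map_smul' := fun c a => CohFound.pushStalk_smul j N z c a }
  exact (DepthLib.idealDepth_congr gl).trans
    (FlatDepth.depth_eq_of_surjective (A := P.presheaf.stalk (j z)) (B := X.presheaf.stalk z)
      (M := N.presheaf.stalk z) (j.stalkMap_surjective z))

/-- Off the image the depth is infinite. -/
theorem depth_push_stalk_notMem (N : X.Modules) {y : P} (hy : y ∉ Set.range j) :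
    LocCoh.depth (P.presheaf.stalk y) (((Scheme.Modules.pushforward j).obj N).presheaf.stalk y) = ⊤ := by
  haveI : Subsingleton (((Scheme.Modules.pushforward j).obj N).presheaf.stalk y) :=
    ⟨fun a b => (M1.eq_zero_stalk_push j N hy a).trans (M1.eq_zero_stalk_push j N hy b).symm⟩
  exact DepthLib.idealDepth_of_smul_top_eq_top (Subsingleton.elim _ _)

end Push

variable (k : Type u) [Field k] {X : Scheme.{u}} [X.Over (Spec (CommRingCat.of k))]
  [IsProper (X ↘ (Spec (CommRingCat.of k)))]

/-- Powers of inverse modules are inverse to each other. -/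
def powInvIso {L L' : X.Modules} (e : CohB1.tensorMod L L' ≅ Coh.structureModule X) :
    ∀ n, CohB1.tensorMod (CohB1.tensorPow L n) (CohB1.tensorPow L' n) ≅ Coh.structureModule X
  | 0 => M2.tensorLUnit _
  | n + 1 => M2.tensorInterchange _ _ _ _ ≪≫ M2.tensorIso (powInvIso e n) e ≪≫ M2.tensorLUnit _

include k in
/-- If every closed point has depth greater than `n`, negative twists by an ample module have no cohomology up to
degree `n`. -/
theorem exists_forall_subsingleton_inverse {L L' : X.Modules} (hamp : CohB1.IsAmple L)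
    (e : CohB1.tensorMod L L' ≅ Coh.structureModule X) {F : X.Modules} (hF : Coh.IsCoh F) (n : ℕ)
    (hdepth : ∀ x : X, IsClosed ({x} : Set X) →
      (n : ℕ∞) < LocCoh.depth (X.presheaf.stalk x) (F.presheaf.stalk x)) :
    ∃ m₀ : ℕ, ∀ m : ℕ, m₀ ≤ m → ∀ i : ℕ, i ≤ n →
      Subsingleton (Coh.HH X (CohB1.tensorMod F (CohB1.tensorPow L' m)) i) := by
  classical
  obtain ⟨N, d, j, hd, hj, -, ⟨e1⟩⟩ :=
    CohFound.exists_closedImmersion_pow_of_isAmple (X ↘ Spec (CommRingCat.of k)) hamp
  haveI := hj
  haveI : AlgebraicGeometry.IsNoetherian X := CohFound.isNoetherian_of_isProper (X ↘ Spec (CommRingCat.of k))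
  haveI : IsLocallyNoetherian (CohB1.ProjSpace N k) := CohFound.ProjNum.isLocallyNoetherian_projSpace N k
  have hL : PicF.IsInvertible L := (Amp.isAmple_iff.1 hamp).1
  have hL' : PicF.IsInvertible L' := M2.isInvertible_of_tensor_iso hL (M2.tensorComm L' L ≪≫ e)
  let D := CMReg18.TwistData.pullback (CMReg18.projData k N) j
  have e1' : D.O 1 ≅ CohB1.tensorPow L d := e1
  let u : D.O (-1) ≅ CohB1.tensorPow L' d := M2.inverseUnique (M := CohB1.tensorPow L d)
    (M2.tensorIso e1'.symm (Iso.refl _) ≪≫ D.invIso) (powInvIso e d)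
  have hq : ∀ q : ℕ, Nonempty (CohB1.tensorPow L' (d * q) ≅ D.O (-(q : ℤ))) := by
    intro q
    induction q with
    | zero => exact ⟨D.zero.symm⟩
    | succ q ih =>
      obtain ⟨i⟩ := ih
      exact ⟨M2.tensorPowAdd L' (d * q) d ≪≫ M2.tensorIso i u.symm ≪≫ D.add _ _ ≪≫
        eqToIso (by congr 1; push_cast; ring)⟩
  let G : ℕ → X.Modules := fun r => CohB1.tensorMod F (CohB1.tensorPow L' r)
  have hGc : ∀ r, Coh.IsCoh (G r) := fun r =>
    CohFound.isCoh_tensor hF (Snapper.isCoh_of_isInvertible (M2.isInvertible_tensorPow hL' r))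
  have hpush : ∀ r i : ℕ, i ≤ n → ES11.NegVan ((Scheme.Modules.pushforward j).obj (G r)) i := by
    intro r i hi
    refine negVan_of_depth_gt (CohFound.isCoh_push_closedImm j (hGc r)) n (fun y hy => ?_) hi
    by_cases hyr : y ∈ Set.range j
    · obtain ⟨z, rfl⟩ := hyr
      have hz : IsClosed ({z} : Set X) := by
        have h := hy.preimage j.continuous
        rwa [← Set.image_singleton, Set.preimage_image_eq _ j.isClosedEmbedding.injective] at h
      rw [depth_push_stalk, depth_stalk_tensor_invertible (M2.isInvertible_tensorPow hL' r) z]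
      exact hdepth z hz
    · rw [depth_push_stalk_notMem j _ hyr]
      exact ENat.natCast_lt_top _
  choose! m₁ hm₁ using hpush
  let q₀ := (Finset.range d ×ˢ Finset.range (n + 1)).sup fun p => (m₁ p.1 p.2).toNat
  refine ⟨d * (q₀ + 1), fun m hm i hi => ?_⟩
  have hr : m % d < d := Nat.mod_lt _ hd
  have hq0 : (m₁ (m % d) i).toNat ≤ q₀ := Finset.le_sup (f := fun p : ℕ × ℕ => (m₁ p.1 p.2).toNat)
    (b := (m % d, i)) (Finset.mem_product.2 ⟨Finset.mem_range.2 hr, Finset.mem_range.2 (by omega)⟩)
  have hle : q₀ + 1 ≤ m / d := (Nat.le_div_iff_mul_le hd).2 (by rwa [mul_comm] at hm)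
  haveI hsub := hm₁ (m % d) i hi ((m / d : ℕ) : ℤ) (by have := Int.self_le_toNat (m₁ (m % d) i); omega)
  obtain ⟨iq⟩ := hq (m / d)
  let K := (CMReg18.projData k N).O (-((m / d : ℕ) : ℤ))
  let a : CohB1.tensorMod (G (m % d)) ((Scheme.Modules.pullback j).obj K) ≅
      CohB1.tensorMod F (CohB1.tensorPow L' m) :=
    M2.tensorAssoc _ _ _ ≪≫ M2.tensorIso (Iso.refl F) (M2.tensorIso (Iso.refl _) iq.symm ≪≫
      (M2.tensorPowAdd L' (m % d) (d * (m / d))).symm ≪≫ eqToIso (by rw [Nat.mod_add_div]))
  have hK : Coh.IsQCoh K := (Snapper.isCoh_of_isInvertible ((CMReg18.projData k N).inv _)).1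
  obtain ⟨p⟩ := CohFound.nonempty_push_tensor_iso j (G (m % d)) (hGc _).1 K hK
  have hs : Subsingleton (Coh.HH (CohB1.ProjSpace N k)
      ((Scheme.Modules.pushforward j).obj (CohB1.tensorMod (G (m % d)) ((Scheme.Modules.pullback j).obj K))) i) :=
    CMReg18.van_iso k p.symm hsub
  haveI hqc : (CohB1.tensorMod (G (m % d)) ((Scheme.Modules.pullback j).obj K)).IsQuasicoherent :=
    M2.isQCoh_tensor (hGc _).1 (Snapper.isCoh_of_isInvertible (D.inv (-((m / d : ℕ) : ℤ)))).1
  obtain ⟨ev⟩ := CohFound.nonempty_hc_push_isAffineHom j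
    (CohB1.tensorMod (G (m % d)) ((Scheme.Modules.pullback j).obj K)) i ⊤
  exact CMReg18.van_iso k a ((CohFound.subsingleton_HH_iff _ i).2
    (ev.toEquiv.subsingleton_congr.1 ((CohFound.subsingleton_HH_iff _ i).1 hs)))

end Groth.Agent.ES11
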