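import Groth.Agent.Lib.CMReg18.Proj
import Groth.Agent.Lib.AB5.Basic
import Groth.Agent.Lib.SmoothReg17.Basic
import Groth.Agent.Lib.VarDim.Alg
import Groth.Agent.Lib.Twist.GlobalProjSpace
import Groth.Agent.Lib.CohFound.ProjCech
import Groth.Agent.Lib.CurveCoh17.Skyscraper

/-!
# Local rings of projective space at closed points; cohomology of negative twists
-/

set_option autoImplicit false
set_option linter.style.haveILetI false
set_option backward.isDefEq.respectTransparency false

universe u

open CategoryTheory CategoryTheory.Limits AlgebraicGeometry TopologicalSpace MvPolynomial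

namespace Groth.Agent.ES11

open Groth.Agent

variable (k : Type u) [Field k] (r : ℕ)

theorem regular_stalk (x : CohB1.ProjSpace r k) :
    IsRegularLocalRing ((CohB1.ProjSpace r k).presheaf.stalk x) := by
  haveI : SmoothOfRelativeDimension r (CohB1.ProjSpace.toSpec r k) :=
    ProjSpace.smoothOfRelativeDimension_toSpec r k
  haveI : Smooth (CohB1.ProjSpace.toSpec r k) := SmoothOfRelativeDimension.smooth r _
  exact SmoothReg17.isRegularLocalRing_stalk (CohB1.ProjSpace.toSpec r k) x

/-- The local ring at a closed point has dimension `r`. -/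
theorem ringKrullDim_stalk_closed (x : CohB1.ProjSpace r k) (hx : IsClosed ({x} : Set (CohB1.ProjSpace r k))) :
    ringKrullDim ((CohB1.ProjSpace r k).presheaf.stalk x) = (r : WithBot ℕ∞) := by
  have hcov := (ProjSpace.iSup_basicOpen r k).ge (Set.mem_univ x)
  obtain ⟨i, hi⟩ := Opens.mem_iSup.1 hcov
  obtain ⟨p, rfl⟩ : x ∈ Set.range (ProjSpace.chart r k i) := by
    rw [← Scheme.Hom.coe_opensRange, ProjSpace.opensRange_chart]; exact hi
  let c := ProjSpace.chart r k i
  have hp : IsClosed ({p} : Set (PrimeSpectrum (MvPolynomial {j : Fin (r + 1) // j ≠ i} k))) := by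
    have h := hx.preimage c.continuous
    rwa [← Set.image_singleton, Set.preimage_image_eq _ c.isOpenEmbedding.injective] at h
  have hmax : p.asIdeal.IsMaximal := (PrimeSpectrum.isClosed_singleton_iff_isMaximal p).mp hp
  rw [ringKrullDim_eq_of_ringEquiv (asIso (c.stalkMap p)).commRingCatIsoToRingEquiv]
  let P := MvPolynomial {j : Fin (r + 1) // j ≠ i} k
  let q₀ : PrimeSpectrum P := p
  have e : ((Spec (CommRingCat.of P)).presheaf.stalk p : Type u) ≃+* Localization.AtPrime p.asIdeal :=
    (Spec.stalkIso (CommRingCat.of P) p).commRingCatIsoToRingEquiv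
  rw [ringKrullDim_eq_of_ringEquiv e, IsLocalization.AtPrime.ringKrullDim_eq_height p.asIdeal]
  have h1 := VarDim.height_add_coheight k P q₀
  have h0 : Order.coheight q₀ = 0 := Order.coheight_eq_zero.mpr fun q hq =>
    (PrimeSpectrum.ext (hmax.eq_of_le q.isPrime.ne_top ((PrimeSpectrum.asIdeal_le_asIdeal _ _).2 hq))).ge
  rw [h0, add_zero, MvPolynomial.ringKrullDim_of_isNoetherianRing, ringKrullDim_eq_zero_of_field,
    zero_add] at h1
  show ((q₀.asIdeal.height : ℕ∞) : WithBot ℕ∞) = _
  rw [PrimeSpectrum.height_eq_orderHeight q₀]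
  refine h1.trans ?_
  simp [Nat.card_eq_fintype_card]

/-- The depth of the local ring at a closed point. -/
theorem depth_stalk_closed (x : CohB1.ProjSpace r k) (hx : IsClosed ({x} : Set (CohB1.ProjSpace r k))) :
    LocCoh.depth ((CohB1.ProjSpace r k).presheaf.stalk x) ((CohB1.ProjSpace r k).presheaf.stalk x) = r := by
  haveI := regular_stalk k r x
  haveI := DepthLib.isCohenMacaulayLocalRing_of_isRegularLocalRing
    (R := (CohB1.ProjSpace r k).presheaf.stalk x)
  have h := (LocCoh.IsCohenMacaulayLocalRing.supportDim_eq_depth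
    (R := (CohB1.ProjSpace r k).presheaf.stalk x))
  rw [Module.supportDim_self_eq_ringKrullDim, ringKrullDim_stalk_closed k r x hx] at h
  exact_mod_cast h.symm

/-- `H^i(P^r, O(d)) = 0` for `d < 0` and `i < r`. -/
theorem subsingleton_twist_neg {d : ℤ} (hd : d < 0) {i : ℕ} (hi : i < r) :
    Subsingleton (Coh.HH (CohB1.ProjSpace r k) (_root_.Twist.twistProjSpace r k d) i) := by
  rcases Nat.eq_zero_or_pos i with rfl | hpos
  · haveI := Twist.subsingleton_sections_twistProjSpace_neg r k hi hd
    exact (CurveCoh17.hh0 _).toEquiv.subsingleton_congr.2 this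
  · exact (CohFound.subsingleton_HH_iff _ i).2
      (CohFound.ProjNum.subsingleton_hc_Od (n := r) (R := k) (d := d) i hpos (Or.inr hi.ne))

end Groth.Agent.ES11
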