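import Groth.Agent.Lib.EnriquesSeveri11.DualSeq
import Groth.Agent.Lib.EnriquesSeveri11.ProjFacts
import Groth.Agent.Lib.CMReg18.Vanish
import Groth.Agent.Lib.CohFound.SerreVan
import Groth.Agent.Lib.CohFound.ProjQuot
import Groth.Agent.Lib.Cyc26.Stalk
import Groth.Agent.Lib.GrMod11.TwistEpi
import Groth.Agent.Lib.DPerf.Top
import Groth.Agent.Lib.KFlat.FinLocFree

/-!
# Enriques–Severi–Zariski: vanishing for negative twists on projective space from depth at closed points
-/

set_option autoImplicit false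
set_option linter.style.haveILetI false
set_option linter.unusedSectionVars false
set_option backward.isDefEq.respectTransparency false

universe u

open CategoryTheory CategoryTheory.Limits AlgebraicGeometry TopologicalSpace

noncomputable section

namespace Groth.Agent.ES11

open Groth.Agent

variable {k : Type u} [Field k] {r : ℕ}

/-- Twisting on projective space. -/
abbrev ptw (F : (CohB1.ProjSpace r k).Modules) (a : ℤ) : (CohB1.ProjSpace r k).Modules :=
  (CMReg18.projData k r).tw F a

/-- Vanishing in degree `i` of all sufficiently negative twists. -/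
def NegVan (F : (CohB1.ProjSpace r k).Modules) (i : ℕ) : Prop :=
  ∃ m₀ : ℤ, ∀ m : ℤ, m₀ ≤ m → Subsingleton (Coh.HH (CohB1.ProjSpace r k) (ptw F (-m)) i)

variable {F G : (CohB1.ProjSpace r k).Modules} {i : ℕ}

theorem NegVan.iso (e : F ≅ G) (h : NegVan F i) : NegVan G i :=
  h.imp fun _ hm m hm' => CMReg18.van_iso k (M2.tensorIso e (Iso.refl _)) (hm m hm')

theorem NegVan.twist (h : NegVan F i) (a : ℤ) : NegVan (ptw F a) i := by
  obtain ⟨m₀, hm⟩ := h
  exact ⟨m₀ + a, fun m hm' => CMReg18.van_iso k
    (((CMReg18.projData k r).twIso F (by ring : -(m - a) = a + -m)) ≪≫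
      ((CMReg18.projData k r).twTwist F a (-m)).symm) (hm (m - a) (by omega))⟩

theorem negVan_structureModule (hi : i < r) : NegVan (Coh.structureModule (CohB1.ProjSpace r k)) i :=
  ⟨1, fun m hm => CMReg18.van_iso k (M2.tensorLUnit _).symm
    (subsingleton_twist_neg k r (by omega : (-m : ℤ) < 0) hi)⟩

theorem negVan_twistProjSpace (a : ℤ) (hi : i < r) : NegVan (_root_.Twist.twistProjSpace r k a) i :=
  ((negVan_structureModule hi).twist a).iso (M2.tensorLUnit _)

theorem negVan_of_sum {κ : Type*} (s : Finset κ) {M N : (CohB1.ProjSpace r k).Modules} (a : κ → (M ⟶ N))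
    (b : κ → (N ⟶ M)) (hsum : ∑ j ∈ s, a j ≫ b j = 𝟙 M) (h : NegVan N i) : NegVan M i := by
  classical
  obtain ⟨m₀, hm⟩ := h
  refine ⟨m₀, fun m hm' => subsingleton_of_forall_eq 0 fun x => ?_⟩
  let T := M2.tensorR ((CMReg18.projData k r).O (-m))
  haveI : Subsingleton (Coh.HH (CohB1.ProjSpace r k) (T.obj N) i) := hm m hm'
  have hs : ∀ t : Finset κ, CurveCoh17.hmap k (T.map (∑ j ∈ t, a j ≫ b j)) i x = 0 := by
    intro t
    induction t using Finset.induction_on with
    | empty => rw [Finset.sum_empty, Functor.map_zero]; exact CurveCoh17.hmap_zero k i x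
    | insert j t hj ih =>
      rw [Finset.sum_insert hj, Functor.map_add, CMReg18.hmap_add, ih, add_zero, Functor.map_comp,
        CurveCoh17.hmap_comp]
      rw [show CurveCoh17.hmap k (T.map (a j)) i x = 0 from Subsingleton.elim _ _, map_zero]
  have h1 := hs s
  rw [hsum, CategoryTheory.Functor.map_id, CurveCoh17.hmap_id] at h1
  exact h1

theorem shortExact_twist {S : ShortComplex (CohB1.ProjSpace r k).Modules} (hS : S.ShortExact) (a : ℤ) :
    (S.map (M2.tensorR ((CMReg18.projData k r).O a))).ShortExact :=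
  CohFound.shortExact_tensor_invertible hS ((CMReg18.projData k r).inv a)

/-- A coherent module is covered by a sum of copies of one twist. -/
theorem exists_epi_twisted_free (hF : Coh.IsCoh F) : ∃ (n : ℤ) (l : ℕ)
    (p : ptw (FlatMod.freeMod (CohB1.ProjSpace r k) l) (-n) ⟶ F), Epi p := by
  haveI := (CMReg18.isAmple_twistOne k (n := r)).2.1
  obtain ⟨n, hn⟩ := (CMReg18.projData k r).exists_gg_large (CMReg18.isAmple_twistOne k) hF
  have hT : Coh.IsCoh (ptw F n) :=
    CohFound.isCoh_tensor hF (CohFound.isCoh_of_isFinLocFree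
      (M2.isFinLocFree_of_isInvertible ((CMReg18.projData k r).inv n)))
  obtain ⟨l, p, hp⟩ := GrMod11.exists_epi_freeMod hT.1 hT.2 (hn n le_rfl)
  haveI := CohFound.epi_tensorMap p ((CMReg18.projData k r).O (-n))
  exact ⟨n, l, M2.tensorMap p (𝟙 _) ≫ ((CMReg18.projData k r).twTwist F n (-n) ≪≫
    (CMReg18.projData k r).twIso F (add_neg_cancel n) ≪≫ (CMReg18.projData k r).twZero F).hom, epi_comp _ _⟩

theorem isFinLocFree_twisted_free (l : ℕ) (a : ℤ) :
    FlatMod.IsFinLocFree (ptw (FlatMod.freeMod (CohB1.ProjSpace r k) l) a) :=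
  M2.isFinLocFree_tensor (KFlat.Sch.isFinLocFree_freeMod _ l)
    (M2.isFinLocFree_of_isInvertible ((CMReg18.projData k r).inv a))

theorem negVan_twisted_free (l : ℕ) (a : ℤ) (hi : i < r) :
    NegVan (ptw (FlatMod.freeMod (CohB1.ProjSpace r k) l) a) i := by
  haveI : HasFiniteBiproducts (CohB1.ProjSpace r k).Modules := Abelian.hasFiniteBiproducts
  let O := Coh.structureModule (CohB1.ProjSpace r k)
  let e : (⨁ fun _ : Fin l => O) ≅ FlatMod.freeMod (CohB1.ProjSpace r k) l := biproduct.isoCoproduct _
  refine NegVan.twist (negVan_of_sum Finset.univ (fun j => e.inv ≫ biproduct.π (fun _ : Fin l => O) j)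
    (fun j => biproduct.ι (fun _ : Fin l => O) j ≫ e.hom) ?_ (negVan_structureModule hi)) a
  simp only [Category.assoc]
  rw [← Preadditive.comp_sum]
  simp only [← Category.assoc (biproduct.π _ _)]
  rw [← Preadditive.sum_comp, biproduct.total, Category.id_comp, e.inv_hom_id]

/-- The dual of a twisted free module. -/
theorem negVan_dual_twisted_free (l : ℕ) (n : ℤ) (hi : i < r) :
    NegVan (CohMop.dual (ptw (FlatMod.freeMod (CohB1.ProjSpace r k) l) (-n))) i := by
  haveI : HasFiniteBiproducts (CohB1.ProjSpace r k).Modules := Abelian.hasFiniteBiproducts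
  let O := Coh.structureModule (CohB1.ProjSpace r k)
  let D := CMReg18.projData k r
  let e : (⨁ fun _ : Fin l => O) ≅ FlatMod.freeMod (CohB1.ProjSpace r k) l := biproduct.isoCoproduct _
  obtain ⟨d⟩ := nonempty_dual_iso_of_inverse (L := D.tw O (-n)) (D := D.O n)
    (M2.isInvertible_tensor (PicLoc.isInvertible_structureModule _) (D.inv (-n)))
    (M2.tensorIso (M2.tensorLUnit (D.O (-n))) (Iso.refl _) ≪≫ D.add (-n) n ≪≫
      eqToIso (by rw [neg_add_cancel]) ≪≫ D.zero)
  have hN : NegVan (CohMop.dual (D.tw O (-n))) i := (negVan_twistProjSpace n hi).iso d.symm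
  let T := M2.tensorR (D.O (-n))
  let π : Fin l → (ptw (FlatMod.freeMod (CohB1.ProjSpace r k) l) (-n) ⟶ D.tw O (-n)) :=
    fun j => T.map (e.inv ≫ biproduct.π (fun _ : Fin l => O) j)
  let ι : Fin l → (D.tw O (-n) ⟶ ptw (FlatMod.freeMod (CohB1.ProjSpace r k) l) (-n)) :=
    fun j => T.map (biproduct.ι (fun _ : Fin l => O) j ≫ e.hom)
  refine negVan_of_sum Finset.univ (fun j => CohMop.ihomMap (ι j) O) (fun j => CohMop.ihomMap (π j) O) ?_ hN
  have h1 : ∀ t : Finset (Fin l), ∑ j ∈ t, CohMop.ihomMap (ι j) O ≫ CohMop.ihomMap (π j) O =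
      CohMop.ihomMap (T.map (∑ j ∈ t, (e.inv ≫ biproduct.π (fun _ : Fin l => O) j) ≫
        biproduct.ι (fun _ : Fin l => O) j ≫ e.hom)) O := by
    intro t
    induction t using Finset.induction_on with
    | empty => rw [Finset.sum_empty, Finset.sum_empty, Functor.map_zero, CohMop.ihomMap_zero]
    | insert j t hj ih =>
      rw [Finset.sum_insert hj, Finset.sum_insert hj, ih, Functor.map_add, CohMop.ihomMap_add,
        CohMop.ihomMap_comp, Functor.map_comp]
  rw [h1]
  simp only [Category.assoc]
  rw [← Preadditive.comp_sum]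
  simp only [← Category.assoc (biproduct.π _ _)]
  rw [← Preadditive.sum_comp, biproduct.total, Category.id_comp, e.inv_hom_id,
    CategoryTheory.Functor.map_id, CohMop.ihomMap_id]
  rfl

/-- Finite locally free modules on `P^r`. -/
theorem negVan_of_isFinLocFree : ∀ i : ℕ, i < r → ∀ {E : (CohB1.ProjSpace r k).Modules},
    FlatMod.IsFinLocFree E → NegVan E i := by
  intro i
  induction i using Nat.strong_induction_on with
  | h i ih =>
    intro hi E hE
    let O := Coh.structureModule (CohB1.ProjSpace r k)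
    have hE' := CohMop.isFinLocFree_dual hE
    obtain ⟨n, l, p, hp⟩ := exists_epi_twisted_free (CohFound.isCoh_of_isFinLocFree hE')
    haveI := hp
    let S : ShortComplex (CohB1.ProjSpace r k).Modules := ShortComplex.mk (kernel.ι p) p (kernel.condition p)
    have hS : S.ShortExact := { exact := ShortComplex.exact_kernel p }
    have hK : FlatMod.IsFinLocFree (kernel p) :=
      DPerf.isFinLocFree_kernel (kernel.ι p) p (kernel.condition p) hS (isFinLocFree_twisted_free l (-n)) hE'
    have hd := shortExact_dual hS hE'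
    haveI : ModSite.HasSheafHom (O := (CohB1.ProjSpace r k).sheaf) E := CohMop.isLeftAdjoint_tenR _
    haveI := CohMop.isIso_bidual hE
    have hX₂ : NegVan (CohMop.dual S.X₂) i := negVan_dual_twisted_free l n hi
    refine NegVan.iso (asIso (CohMop.bidual E)).symm ?_
    cases i with
    | zero =>
      obtain ⟨m₀, hm⟩ := hX₂
      refine ⟨m₀, fun m hm' => ⟨fun x y => ?_⟩⟩
      exact CurveCoh17.hmap_f_injective k (shortExact_twist hd (-m)) (@Subsingleton.elim _ (hm m hm') _ _)
    | succ i =>
      obtain ⟨m₁, h₁⟩ := hX₂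
      obtain ⟨m₂, h₂⟩ := ih i (Nat.lt_succ_self i) (by omega) (CohMop.isFinLocFree_dual hK)
      exact ⟨max m₁ m₂, fun m hm => CMReg18.van₁ k (shortExact_twist hd (-m))
        (h₂ m (le_of_max_le_right hm)) (h₁ m (le_of_max_le_left hm))⟩

theorem isFinLocFree_of_free_closed (hF : Coh.IsCoh F)
    (h : ∀ x : CohB1.ProjSpace r k, IsClosed ({x} : Set (CohB1.ProjSpace r k)) →
      Module.Free ((CohB1.ProjSpace r k).presheaf.stalk x) (F.presheaf.stalk x)) :
    FlatMod.IsFinLocFree F := fun x => by
  haveI := (CMReg18.isAmple_twistOne k (n := r)).2.1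
  haveI : IsLocallyNoetherian (CohB1.ProjSpace r k) := CohFound.ProjNum.isLocallyNoetherian_projSpace r k
  obtain ⟨y, hy, hyc⟩ := IsClosed.exists_closed_singleton (S := closure ({x} : Set (CohB1.ProjSpace r k)))
    isClosed_closure ⟨x, subset_closure rfl⟩
  haveI := h y hyc
  obtain ⟨U, n, hyU, e⟩ := M1.exists_freeMod_of_free_stalk (M1.isFP_of_isCoh hF) y
  exact ⟨U, n, (specializes_iff_mem_closure.2 hy).mem_open U.isOpen hyU, e⟩

/-- Coherent modules with depth at least `r - e` at closed points. -/
theorem negVan_of_depth : ∀ (e : ℕ) {F : (CohB1.ProjSpace r k).Modules}, Coh.IsCoh F →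
    (∀ x : CohB1.ProjSpace r k, IsClosed ({x} : Set (CohB1.ProjSpace r k)) →
      ((r - e : ℕ) : ℕ∞) ≤ LocCoh.depth ((CohB1.ProjSpace r k).presheaf.stalk x) (F.presheaf.stalk x)) →
    ∀ i : ℕ, i + e < r → NegVan F i := by
  haveI : ∀ x, IsRegularLocalRing ((CohB1.ProjSpace r k).presheaf.stalk x) := regular_stalk k r
  haveI : IsLocallyNoetherian (CohB1.ProjSpace r k) := CohFound.ProjNum.isLocallyNoetherian_projSpace r k
  intro e
  induction e with
  | zero =>
    intro F hF hd i hi
    refine negVan_of_isFinLocFree i (by omega) (isFinLocFree_of_free_closed hF fun x hx => ?_)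
    haveI := M1.finite_stalk hF.1 hF.2 x
    haveI : Module.Projective ((CohB1.ProjSpace r k).presheaf.stalk x) (F.presheaf.stalk x) :=
      AB5.projective_of_depth_ge r _ (depth_stalk_closed k r x hx) _
        ⟨_, RegLoc.pd_le_spanFinrank _ _ rfl _⟩ (by simpa using hd x hx)
    exact Module.free_of_flat_of_isLocalRing
  | succ e ih =>
    intro F hF hd i hi
    obtain ⟨n, l, p, hp⟩ := exists_epi_twisted_free hF
    haveI := hp
    let S : ShortComplex (CohB1.ProjSpace r k).Modules := ShortComplex.mk (kernel.ι p) p (kernel.condition p)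
    have hS : S.ShortExact := { exact := ShortComplex.exact_kernel p }
    have hG := isFinLocFree_twisted_free (k := k) (r := r) l (-n)
    have hGc := CohFound.isCoh_of_isFinLocFree hG
    have hKc : Coh.IsCoh (kernel p) := M1.isCoh_kernel hGc hF.1 p
    have hdK : ∀ x : CohB1.ProjSpace r k, IsClosed ({x} : Set (CohB1.ProjSpace r k)) →
        ((r - e : ℕ) : ℕ∞) ≤
          LocCoh.depth ((CohB1.ProjSpace r k).presheaf.stalk x) ((kernel p).presheaf.stalk x) := fun x hx => by
      haveI := M1.finite_stalk hF.1 hF.2 x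
      haveI := M1.finite_stalk hGc.1 hGc.2 x
      haveI := M1.finite_stalk hKc.1 hKc.2 x
      haveI := ((M1.isFinLocFree_iff _).1 hG).2 x
      obtain ⟨h1, h2, h3⟩ := Cyc26.stalkLin_exact hS x
      have hineq := (DepthLib.idealDepth_shortExact
        (I := IsLocalRing.maximalIdeal ((CohB1.ProjSpace r k).presheaf.stalk x))
        (DepthLib.shortExact_of_linearMap h1 h3 h2)).2.2
      refine le_trans (le_min ?_ ?_) hineq
      · rcases subsingleton_or_nontrivial
          ((ptw (FlatMod.freeMod (CohB1.ProjSpace r k) l) (-n)).presheaf.stalk x : Type u) with hs | hs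
        · rw [DepthLib.idealDepth_of_smul_top_eq_top (Subsingleton.elim _ _)]
          exact le_top
        · change _ ≤ LocCoh.depth _ _
          rw [AB5.depth_of_projective, depth_stalk_closed k r x hx]
          exact_mod_cast Nat.sub_le _ _
      · refine le_trans ?_ (add_le_add_left (hd x hx) 1)
        exact_mod_cast (by omega : r - e ≤ r - (e + 1) + 1)
    obtain ⟨m₁, h₁⟩ := negVan_twisted_free (k := k) (r := r) l (-n) (by omega : i < r)
    obtain ⟨m₂, h₂⟩ := ih hKc hdK (i + 1) (by omega)
    exact ⟨max m₁ m₂, fun m hm => CMReg18.van₃ k (shortExact_twist hS (-m))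
      (h₁ m (le_of_max_le_left hm)) (h₂ m (le_of_max_le_right hm))⟩

theorem isZero_of_depth_gt (hF : Coh.IsCoh F)
    (h : ∀ x : CohB1.ProjSpace r k, IsClosed ({x} : Set (CohB1.ProjSpace r k)) →
      (r : ℕ∞) < LocCoh.depth ((CohB1.ProjSpace r k).presheaf.stalk x) (F.presheaf.stalk x)) : IsZero F := by
  haveI : IsLocallyNoetherian (CohB1.ProjSpace r k) := CohFound.ProjNum.isLocallyNoetherian_projSpace r k
  haveI := (CMReg18.isAmple_twistOne k (n := r)).2.1
  refine Snapper.isZero_of_support_empty (Set.eq_empty_of_forall_notMem fun x hx => ?_)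
  obtain ⟨y, hy, hyc⟩ := IsClosed.exists_closed_singleton (S := closure ({x} : Set (CohB1.ProjSpace r k)))
    isClosed_closure ⟨x, subset_closure rfl⟩
  have hys : y ∈ CohB1.support F :=
    (specializes_iff_mem_closure.2 hy).mem_closed (M1.isClosed_support hF.2) hx
  haveI : Nontrivial (F.presheaf.stalk y) := not_subsingleton_iff_nontrivial.1 hys
  haveI := M1.finite_stalk hF.1 hF.2 y
  haveI := regular_stalk k r y
  have h1 : ((LocCoh.depth ((CohB1.ProjSpace r k).presheaf.stalk y) (F.presheaf.stalk y) : ℕ∞) : WithBot ℕ∞) ≤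
      (r : WithBot ℕ∞) := by
    refine le_trans DepthLib.depth_le_supportDim ?_
    rw [← ringKrullDim_stalk_closed k r y hyc]
    exact Module.supportDim_le_ringKrullDim _ _
  exact absurd (h y hyc) (not_lt.2 (by exact_mod_cast h1))

theorem negVan_of_depth_gt (hF : Coh.IsCoh F) (n : ℕ)
    (h : ∀ x : CohB1.ProjSpace r k, IsClosed ({x} : Set (CohB1.ProjSpace r k)) →
      (n : ℕ∞) < LocCoh.depth ((CohB1.ProjSpace r k).presheaf.stalk x) (F.presheaf.stalk x))
    {i : ℕ} (hi : i ≤ n) : NegVan F i := by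
  by_cases hn : n < r
  · refine negVan_of_depth (r - (n + 1)) hF (fun x hx => ?_) i (by omega)
    rw [show r - (r - (n + 1)) = n + 1 by omega]
    exact_mod_cast Order.add_one_le_of_lt (h x hx)
  · have hz := isZero_of_depth_gt hF fun x hx => lt_of_le_of_lt (by exact_mod_cast not_lt.1 hn) (h x hx)
    exact ⟨0, fun m _ => CMReg18.van_isZero k ((M2.tensorR ((CMReg18.projData k r).O (-m))).map_isZero hz) i⟩

end Groth.Agent.ES11
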